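import Cfsg.Agent.Lib.Sporadic.LyIndex.Lower
import Cfsg.Agent.S1055

/-!
# The presented Lyons group is simple

The classes of the cosets are the orbits of the subgroup of the five letters; a sum of their lengths divides
the index only for one or all of them, so that subgroup is maximal.
-/

set_option autoImplicit false
set_option maxRecDepth 100000

namespace CfsgLib.Sporadic.CosetCert.LyIndex

open LyG2Five Cfsg.Spor PackedMatrix

attribute [local instance] factPrimeFive

attribute [local irreducible] PackedMatrix.mul PackedMatrix.ok vimg scaleIs getN wordM covAt lineAt mulIs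

theorem classLen_sum : (∑ i : Fin 5, classLen.getD (i : ℕ) 0) = 8835156 := by decide

theorem classes_exact : Function.Bijective classMap ∧ ∀ i : Fin 5, (stab i).index = classLen.getD (i : ℕ) 0 := by
  have hle : ∀ i : Fin 5, (stab i).index ≤ classLen.getD (i : ℕ) 0 := fun i => stab_index i.2
  have h1 : Hs.index ≤ ∑ i : Fin 5, (stab i).index := by
    refine (Nat.card_le_card_of_surjective _ classMap_surj).trans (le_of_eq ?_)
    rw [Nat.card_sigma]
    rfl
  have h2 : (∑ i : Fin 5, (stab i).index) = ∑ i : Fin 5, classLen.getD (i : ℕ) 0 := by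
    refine le_antisymm (Finset.sum_le_sum fun i _ => hle i) ?_
    rw [classLen_sum, ← index_eq]
    exact h1
  refine ⟨classMap_surj.bijective_of_nat_card_le (le_of_eq ?_),
    fun i => (Finset.sum_eq_sum_iff_of_le fun i _ => hle i).1 h2 i (Finset.mem_univ _)⟩
  rw [Nat.card_sigma]
  exact h2.trans (classLen_sum.trans index_eq.symm)

theorem sizes_sum : ∀ s : Finset (Fin 5), (0 : Fin 5) ∈ s →
    (∑ i ∈ s, classLen.getD (i : ℕ) 0) ∣ 8835156 → s = {0} ∨ s = Finset.univ := by decide +kernel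

theorem maximal_Hs (L : Subgroup LyP) (hL : Hs ≤ L) : L = Hs ∨ L = ⊤ := by
  classical
  obtain ⟨hbij, hidx⟩ := classes_exact
  let s : Finset (Fin 5) := Finset.univ.filter fun i => wG i ∈ L
  let F : (Σ i : s, E ⧸ stab (i : Fin 5)) → L ⧸ Hs.subgroupOf L := fun x =>
    Quotient.liftOn' x.2
      (fun k => QuotientGroup.mk (⟨gE k * (wG (x.1 : Fin 5))⁻¹,
        mul_mem (hL ⟨k, rfl⟩) (inv_mem (Finset.mem_filter.1 x.1.2).2)⟩ : L)) fun a b hab => by
      rw [QuotientGroup.leftRel_apply] at hab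
      refine QuotientGroup.eq.2 ?_
      rw [Subgroup.mem_subgroupOf]
      have h := (show RS (wG (x.1 : Fin 5) * gE (a⁻¹ * b)) (wG (x.1 : Fin 5)) from hab)
      rw [RS, map_mul, map_inv] at h
      show (gE a * (wG (x.1 : Fin 5))⁻¹)⁻¹ * (gE b * (wG (x.1 : Fin 5))⁻¹) ∈ Hs
      rw [mul_inv_rev, inv_inv]
      simpa only [mul_assoc] using h
  have hF : Function.Bijective F := by
    constructor
    · rintro ⟨⟨i, hi⟩, a⟩ ⟨⟨j, hj⟩, b⟩ e
      induction a using QuotientGroup.induction_on with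
      | _ a =>
        induction b using QuotientGroup.induction_on with
        | _ b =>
          have h := QuotientGroup.eq.1 e
          rw [Subgroup.mem_subgroupOf] at h
          have h2 : classMap ⟨i, QuotientGroup.mk a⟩ = classMap ⟨j, QuotientGroup.mk b⟩ := QuotientGroup.eq.2 h
          obtain ⟨rfl, h3⟩ := Sigma.mk.inj_iff.1 (hbij.1 h2)
          exact congrArg (Sigma.mk (⟨i, hi⟩ : s)) (eq_of_heq h3)
    · intro c
      obtain ⟨⟨g, hg⟩, rfl⟩ := QuotientGroup.mk_surjective c
      obtain ⟨⟨i, b⟩, hb⟩ := hbij.2 (QuotientGroup.mk g)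
      induction b using QuotientGroup.induction_on with
      | _ b =>
        have hb' : (gE b * (wG i)⁻¹)⁻¹ * g ∈ Hs := QuotientGroup.eq.1 hb
        have hi : i ∈ s := by
          refine Finset.mem_filter.2 ⟨Finset.mem_univ _, ?_⟩
          have h1 : gE b * (wG i)⁻¹ ∈ L := by
            have h0 := mul_mem hg (inv_mem (hL hb'))
            rwa [mul_inv_rev, inv_inv, mul_inv_cancel_left] at h0
          simpa using inv_mem (mul_mem (inv_mem (hL ⟨b, rfl⟩)) h1)
        refine ⟨⟨⟨i, hi⟩, QuotientGroup.mk b⟩, QuotientGroup.eq.2 ?_⟩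
        rw [Subgroup.mem_subgroupOf]
        exact hb'
  have hcard := Nat.card_congr (Equiv.ofBijective F hF)
  rw [Nat.card_sigma] at hcard
  have hrel : Hs.relIndex L = ∑ i ∈ s, classLen.getD (i : ℕ) 0 := by
    rw [← Finset.sum_coe_sort s]
    exact hcard.symm.trans (Finset.sum_congr rfl fun i _ => hidx (i : Fin 5))
  have hdvd : Hs.relIndex L ∣ 8835156 := by
    have := Subgroup.relIndex_mul_index hL
    rw [index_eq] at this
    exact Dvd.intro _ this
  have h0 : (0 : Fin 5) ∈ s := Finset.mem_filter.2 ⟨Finset.mem_univ _, one_mem L⟩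
  rcases sizes_sum s h0 (hrel ▸ hdvd) with hs | hs
  · left
    refine le_antisymm (Subgroup.relIndex_eq_one.1 ?_) hL
    rw [hrel, hs]
    rfl
  · right
    rw [eq_top_iff]
    intro g _
    obtain ⟨i, hi, k, hk⟩ := inS_all g
    have hw : wG i ∈ L :=
      (Finset.mem_filter.1 (show (⟨i, hi⟩ : Fin 5) ∈ s by rw [hs]; exact Finset.mem_univ _)).2
    have := mul_mem (hL hk) (mul_mem hw (hL ⟨k, rfl⟩))
    rwa [inv_mul_cancel_right] at this

theorem gE_injective : Function.Injective gE := by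
  intro a b h
  have : Finite Hs := Nat.finite_of_card_ne_zero (by rw [card_Hs]; norm_num)
  have hb : Function.Bijective gE.rangeRestrict :=
    gE.rangeRestrict_surjective.bijective_of_nat_card_le (by rw [card_E, ← card_Hs])
  exact hb.1 (Subtype.ext h)

theorem simple_Hs : IsSimpleGroup Hs := by
  obtain ⟨e⟩ := LyG2Five.main
  let e' := (MulEquiv.subgroupCongr map_mk_Hs).symm.trans e
  have hs : IsSimpleGroup (Cfsg.Lie.chevG2.group (ZMod 5)) :=
    (Cfsg.Agent.S1055.result (F := ZMod 5) ⟨2, by decide, by decide⟩).1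
  have : Nontrivial Hs := e'.toEquiv.nontrivial
  exact IsSimpleGroup.isSimpleGroup_of_surjective e'.symm.toMonoidHom e'.symm.surjective

theorem inf_Hs {M : Subgroup LyP} (hM : M.Normal) : Hs ≤ M ∨ M ⊓ Hs = ⊥ := by
  have := simple_Hs
  rcases Subgroup.Normal.eq_bot_or_eq_top (hM.subgroupOf Hs) with h | h
  · exact Or.inr (disjoint_iff.1 (Subgroup.subgroupOf_eq_bot.1 h))
  · exact Or.inl (Subgroup.subgroupOf_eq_top.1 h)

theorem not_normal_Hs : ¬ Hs.Normal := by
  intro h
  have ht : stab 1 = ⊤ := Subgroup.ext fun k => iff_of_true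
    (show wG 1 * gE k * (wG 1)⁻¹ ∈ Hs from h.conj_mem _ ⟨k, rfl⟩ _) trivial
  have := classes_exact.2 1
  rw [show ((1 : Fin 5) : ℕ) = 1 from rfl, ht, Subgroup.index_top] at this
  exact absurd this (by decide)

theorem eq_bot_of_le_Hs {M : Subgroup LyP} (hM : M.Normal) (hle : M ≤ Hs) : M = ⊥ := by
  rcases inf_Hs hM with h | h
  · exact absurd (le_antisymm hle h ▸ hM) not_normal_Hs
  · rwa [inf_eq_left.2 hle] at h

/-- An entry of a polynomial in a packed matrix. -/
noncomputable def polyEnt (M : List ℕ) (i j : ℕ) : ℕ :=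
  dig ((PackedMatrix.mul 5 14 (PackedMatrix.mul 5 14 M M) M).getD i 0) j +
    2 * dig ((PackedMatrix.mul 5 14 M M).getD i 0) j + 3 * dig (M.getD i 0) j + 4 * dig (one14.getD i 0) j

/-- The matrices of the first pair. -/
def pairMat : Bool → List ℕ
  | b => match getN 8 with
    | .f Q P => if b then Q else P
    | _ => []

/-- The polynomial. -/
def cubic (X : M14) : M14 := X * X * X + (2 : ZMod 5) • (X * X) + (3 : ZMod 5) • X + (4 : ZMod 5) • (1 : M14)

theorem cubic_entry {M : List ℕ} (h : ok 5 14 M = true) (i j : Fin 14) :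
    cubic (md14 M) i j = ((polyEnt M i j : ℕ) : ZMod 5) := by
  have h2 := ok_mul (p := 5) (n := 14) (by norm_num) (by norm_num) h M
  have e2 : md14 (PackedMatrix.mul 5 14 M M) = md14 M * md14 M := dec_mul (by norm_num) (by norm_num) h h
  have e3 : md14 (PackedMatrix.mul 5 14 (PackedMatrix.mul 5 14 M M) M) = md14 M * md14 M * md14 M :=
    (dec_mul (by norm_num) (by norm_num) h2 h).trans (congrArg (· * _) e2)
  rw [cubic, ← e3, ← e2, ← md14_one]
  simp only [Matrix.add_apply, Matrix.smul_apply, smul_eq_mul, polyEnt, Nat.cast_add, Nat.cast_mul]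
  rfl

theorem pair_invariant : ok 5 14 (pairMat true) = true ∧ ok 5 14 (pairMat false) = true ∧
    (∀ i < 14, ∀ j < 14, polyEnt (pairMat false) i j % 5 = 0) ∧
    (List.range 14).any (fun i => (List.range 14).any fun j => !Nat.beq (polyEnt (pairMat true) i j % 5) 0) = true := by
  decide +kernel

theorem node8 : ∃ Q P, getN 8 = .f Q P ∧ pairMat true = Q ∧ pairMat false = P := by
  have h : (match getN 8 with | .f _ _ => true | _ => false) = true := by decide +kernel
  split at h
  · rename_i Q P e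
    exact ⟨Q, P, e, by simp [pairMat, e], by simp [pairMat, e]⟩
  · exact absurd h Bool.false_ne_true

/-- No element of the subgroup acts on it like z. -/
theorem no_inner : ¬ ∃ p : E, ∀ q r : E, gE q * fG .z = fG .z * gE r → q * p = p * r := by
  rintro ⟨p, hp⟩
  obtain ⟨okQ, okP, h0, h1⟩ := pair_invariant
  obtain ⟨Q, P, e, eQ, eP⟩ := node8
  have hsem := sem_all 8 (by norm_num)
  rw [e] at hsem
  obtain ⟨q, r, hq, hr, hqr⟩ := hsem
  rw [eQ] at okQ h1
  rw [eP] at okP h0
  have hz : cubic (mE r) = 0 := by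
    ext i j
    rw [hr.2, cubic_entry okP, Matrix.zero_apply, ← ZMod.natCast_mod, h0 i i.2 j j.2, Nat.cast_zero]
  have hqp : mE q = mE p * mE r * mE p⁻¹ := by
    rw [← map_mul, ← map_mul, ← hp q r hqr, mul_inv_cancel_right]
  have hpp : mE p⁻¹ * mE p = 1 := by rw [← map_mul, inv_mul_cancel, map_one]
  have hqq : mE p * mE p⁻¹ = 1 := by rw [← map_mul, mul_inv_cancel, map_one]
  have hc : ∀ X Y : M14, mE p * X * mE p⁻¹ * (mE p * Y * mE p⁻¹) = mE p * (X * Y) * mE p⁻¹ := fun X Y => by
    simp only [mul_assoc]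
    rw [← mul_assoc (mE p⁻¹) (mE p), hpp, one_mul]
  have hQ : cubic (mE q) = 0 := by
    have : cubic (mE q) = mE p * cubic (mE r) * mE p⁻¹ := by
      rw [hqp]
      simp only [cubic, hc, mul_add, add_mul, mul_smul_comm, smul_mul_assoc, mul_one, hqq]
    rw [this, hz, mul_zero, zero_mul]
  obtain ⟨i, hi, h2⟩ := List.any_eq_true.1 h1
  obtain ⟨j, hj, h3⟩ := List.any_eq_true.1 h2
  rw [List.mem_range] at hi hj
  have := congrFun (congrFun hQ ⟨i, hi⟩) ⟨j, hj⟩
  rw [hq.2, cubic_entry okQ, Matrix.zero_apply, ← ZMod.natCast_mod] at this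
  have h5 := congrArg ZMod.val this
  rw [ZMod.val_natCast, ZMod.val_zero, Nat.mod_mod] at h5
  rw [Bool.not_eq_true'] at h3
  rw [h5] at h3
  exact absurd h3 (by decide)

theorem eq_top_of_sup {M : Subgroup LyP} (hM : M.Normal) (h : M ⊔ Hs = ⊤) : M = ⊤ := by
  rcases inf_Hs hM with hle | hinf
  · rw [← h]; exact (sup_eq_left.2 hle).symm
  · refine absurd ?_ no_inner
    obtain ⟨a, ha, b, ⟨p, rfl⟩, e⟩ := Subgroup.mem_sup_of_normal_left.1 (h ▸ Subgroup.mem_top (fG .z))
    refine ⟨p, fun q r hqr => ?_⟩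
    have ha1 : QuotientGroup.mk' M a = 1 := (QuotientGroup.eq_one_iff a).2 ha
    have h2 := congrArg (QuotientGroup.mk' M) hqr
    rw [← e] at h2
    simp only [map_mul, ha1, one_mul] at h2
    have h2' : QuotientGroup.mk' M (gE (q * p)) = QuotientGroup.mk' M (gE (p * r)) := by
      simp only [map_mul]
      exact h2
    have h3 : (gE (q * p))⁻¹ * gE (p * r) ∈ M := QuotientGroup.eq.1 h2'
    have h4 : (gE (q * p))⁻¹ * gE (p * r) ∈ M ⊓ Hs :=
      Subgroup.mem_inf.2 ⟨h3, mul_mem (inv_mem (show gE (q * p) ∈ Hs from ⟨_, rfl⟩)) ⟨_, rfl⟩⟩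
    rw [hinf, Subgroup.mem_bot, inv_mul_eq_one] at h4
    exact gE_injective h4

theorem card_Ly_eq : Nat.card LyP = 51765179004000000 := by
  rw [card_LyP, index_eq]

theorem isSimple_Ly : IsSimpleGroup LyP := by
  have : Nontrivial LyP := by
    have : Finite LyP := Nat.finite_of_card_ne_zero (by rw [card_Ly_eq]; norm_num)
    exact Finite.one_lt_card_iff_nontrivial.1 (by rw [card_Ly_eq]; norm_num)
  refine ⟨fun M hM => ?_⟩
  rcases maximal_Hs (M ⊔ Hs) le_sup_right with h | h
  · exact Or.inl (eq_bot_of_le_Hs hM (h ▸ le_sup_left))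
  · exact Or.inr (eq_top_of_sup hM h)

end CfsgLib.Sporadic.CosetCert.LyIndex
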