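import Cfsg.Agent.Lib.Sporadic.WideMatrix
import Mathlib.GroupTheory.GroupAction.Quotient
import Mathlib.GroupTheory.Index
import Mathlib.Data.Matrix.Basis

/-!
# Orbits of rows under packed matrices over the field with five elements

A row is packed as a square matrix whose other rows vanish; a closed tree of images gives a divisor of the
order of the group generated by the matrices.
-/

set_option autoImplicit false

namespace CfsgLib.Sporadic.CosetCert.LyIndex.Wide

open WideMatrix

variable {n : ℕ}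

theorem good_fn (hn : 0 < n) {f g : ℕ → ℕ} (hf : ∀ l, f l < 5) (hg : ∀ l, g l < 5)
    (h : ∀ i j : Fin n, (f ((i : ℕ) * n + j) : ZMod 5) = (g ((i : ℕ) * n + j) : ZMod 5)) :
    ∀ l < n * n, f l = g l := by
  intro l hl
  have hi : l / n < n := Nat.div_lt_iff_lt_mul hn |>.2 hl
  have := congrArg ZMod.val (h ⟨l / n, hi⟩ ⟨l % n, Nat.mod_lt _ hn⟩)
  rw [ZMod.val_natCast, ZMod.val_natCast, Nat.mod_eq_of_lt (hf _), Nat.mod_eq_of_lt (hg _)] at this
  rwa [Nat.div_add_mod' l n] at this

/-- The packed number is determined by the matrix. -/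
theorem good_num (hn : 0 < n) {A A' : ℕ} {M : Matrix (Fin n) (Fin n) (ZMod 5)} (h : Good n A M)
    (h' : Good n A' M) : A = A' := by
  obtain ⟨f, hf, -, rfl, hM⟩ := h
  obtain ⟨g, hg, -, rfl, hN⟩ := h'
  exact P_congr (good_fn hn hf hg fun i j => by rw [← hM, ← hN])

/-- The matrix is determined by the packed number. -/
theorem good_mat {A : ℕ} {M N : Matrix (Fin n) (Fin n) (ZMod 5)} (h : Good n A M) (h' : Good n A N) : M = N := by
  obtain ⟨f, hf, hfz, hA, hM⟩ := h
  obtain ⟨g, hg, hgz, hA', hN⟩ := h'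
  ext i j
  have hl : (i : ℕ) * n + j < n * n := by
    have := Nat.mul_le_mul_right n (Nat.succ_le_of_lt i.2)
    rw [Nat.succ_mul] at this
    have := j.2
    omega
  rw [hM, hN]
  congr 1
  have key : ∀ F : ℕ → ℕ, (∀ m, F m < 5) → (∀ m, n * n ≤ m → F m = 0) → ∀ l < n * n,
      P (n * n) F / B ^ l % B = F l := by
    intro F h5 hz l hl
    have hb : ∀ m, F m < B := fun m => lt_trans (h5 m) (by norm_num [B])
    rw [P_div (fun m _ => hb m) hz]
    have h1 := P_mod (L := n * n) (f := fun m => F (l + m)) (m := 1) (by omega) (fun m _ => hb _)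
    rw [pow_one] at h1
    rw [h1]
    simp [P]
  rw [← key f hf hfz _ hl, ← key g hg hgz _ hl, ← hA, ← hA']

/-- The number of a unit row. -/
def unitRow (k : ℕ) : ℕ := B ^ k

theorem good_unit {k : ℕ} (hn : 0 < n) (hk : k < n) :
    Good n (unitRow k) (Matrix.single ⟨0, hn⟩ ⟨k, hk⟩ (1 : ZMod 5)) := by
  refine ⟨fun l => if l = k then 1 else 0, fun l => by dsimp only; split <;> norm_num,
    fun l hl => if_neg (by have : n ≤ n * n := Nat.le_mul_self n; omega), ?_, fun i j => ?_⟩
  · rw [unitRow, P, Finset.sum_eq_single k]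
    · simp
    · intro b _ hb; simp [hb]
    · intro h
      refine absurd (Finset.mem_range.2 ?_) h
      have : n ≤ n * n := Nat.le_mul_self n
      omega
  · rw [Matrix.single_apply]
    by_cases h : (i : ℕ) = 0 ∧ (j : ℕ) = k
    · rw [if_pos ⟨Fin.ext h.1.symm, Fin.ext h.2.symm⟩]; dsimp only; rw [if_pos (by rw [h.1, h.2]; omega)]; simp
    · rw [if_neg (fun c => h ⟨(congrArg Fin.val c.1).symm, (congrArg Fin.val c.2).symm⟩)]
      dsimp only
      rw [if_neg, Nat.cast_zero]
      intro c
      refine h ?_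
      rcases Nat.eq_zero_or_pos (i : ℕ) with hi | hi
      · exact ⟨hi, by rw [hi] at c; omega⟩
      · have : n ≤ (i : ℕ) * n := Nat.le_mul_of_pos_left n hi
        omega

variable (n)

/-- The image of a packed row. -/
noncomputable def img (v : ℕ) (G : List ℕ) : ℕ := WideMatrix.mul n v G

/-- A code: parent, generator, depth. -/
def mkCode (p s d : ℕ) : ℕ := p + 65536 * (s + 16 * d)

/-- The parent. -/
def parOf (c : ℕ) : ℕ := Nat.mod c 65536
/-- The generator. -/
def genOf (c : ℕ) : ℕ := Nat.mod (Nat.div c 65536) 16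
/-- The depth. -/
def depOf (c : ℕ) : ℕ := Nat.div c 1048576

/-- The test of a closed tree at one point. -/
noncomputable def treeOne (root N : ℕ) (pt code : ℕ → ℕ) (succs : ℕ → List ℕ) (Gs : List (List ℕ)) (t : ℕ) : Bool :=
  (Nat.ble N (Nat.succ t) || Nat.blt (pt t) (pt (Nat.succ t))) &&
    forced' (fun c =>
      (Nat.beq (depOf c) 0 && Nat.beq (pt t) root) ||
      (Nat.blt (parOf c) N && Nat.blt (depOf (code (parOf c))) (depOf c) && Nat.blt (genOf c) Gs.length &&
        Nat.beq (img n (pt (parOf c)) (Gs.getD (genOf c) [])) (pt t))) (code t) &&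
    (List.range Gs.length).all fun s =>
      Nat.blt ((succs t).getD s N) N && Nat.beq (img n (pt t) (Gs.getD s [])) (pt ((succs t).getD s N))
where
  /-- Feed a numeral to a test. -/
  forced' (g : ℕ → Bool) (m : ℕ) : Bool := Nat.rec (motive := fun _ => Bool) (g 0) (fun k _ => g (k + 1)) m

theorem forced'_eq (g : ℕ → Bool) (m : ℕ) : treeOne.forced' g m = g m := by cases m <;> rfl

variable {n}

/-- A closed tree of rows divides the order of the generated group. -/
theorem tree_dvd (hn : 0 < n) (hn' : n ≤ 1000) {k : ℕ} (hk : k < n) {N : ℕ} (hN : 0 < N) (pt code : ℕ → ℕ)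
    (succs : ℕ → List ℕ) (Gs : List (List ℕ)) (hG : ∀ G ∈ Gs, okRows n G = true)
    (us : Fin Gs.length → (Matrix (Fin n) (Fin n) (ZMod 5))ˣ) (hus : ∀ s, (us s).val = dec n (Gs.get s))
    (h : ∀ t < N, treeOne n (unitRow k) N pt code succs Gs t = true) :
    N ∣ Nat.card (Subgroup.closure (Set.range us)) := by
  classical
  set X0 : Matrix (Fin n) (Fin n) (ZMod 5) := Matrix.single ⟨0, hn⟩ ⟨k, hk⟩ 1 with hX0
  set Pg := Subgroup.closure (Set.range us) with hPg
  let St : Subgroup Pg :=
    { carrier := {x | X0 * (x : (Matrix (Fin n) (Fin n) (ZMod 5))ˣ).val = X0}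
      one_mem' := by simp
      mul_mem' := fun {x y} hx hy => by
        simp only [Set.mem_setOf_eq, Subgroup.coe_mul, Units.val_mul] at hx hy ⊢
        rw [← mul_assoc, hx, hy]
      inv_mem' := fun {x} hx => by
        simp only [Set.mem_setOf_eq, InvMemClass.coe_inv] at hx ⊢
        conv_lhs => rw [← hx]
        rw [mul_assoc, Units.mul_inv, mul_one] }
  have getG : ∀ s, ∀ hs : s < Gs.length, Gs.getD s [] = Gs.get ⟨s, hs⟩ ∧ okRows n (Gs.getD s []) = true :=
    fun s hs => by
      rw [List.getD_eq_getElem _ _ hs]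
      exact ⟨rfl, hG _ (List.getElem_mem hs)⟩
  have hinc : ∀ t s, t < s → s < N → pt t < pt s := by
    intro t s
    induction s with
    | zero => omega
    | succ s ih =>
      intro hts hs
      have h1 := h s (by omega)
      simp only [treeOne, Bool.and_eq_true, Bool.or_eq_true] at h1
      have hstep : pt s < pt (s + 1) := by
        rcases h1.1.1 with h2 | h2
        · exact absurd (Nat.le_of_ble_eq_true h2) (by omega)
        · exact Nat.le_of_ble_eq_true h2
      rcases Nat.lt_succ_iff_lt_or_eq.1 hts with h' | rfl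
      · exact (ih h' (by omega)).trans hstep
      · exact hstep
  have reach : ∀ t < N, ∃ g ∈ Pg, Good n (pt t) (X0 * g.val) := by
    intro t
    induction hd : depOf (code t) using Nat.strong_induction_on generalizing t with
    | _ d ih =>
      intro ht
      have h1 := h t ht
      simp only [treeOne, Bool.and_eq_true, forced'_eq, Bool.or_eq_true] at h1
      rcases h1.1.2 with ⟨-, h2⟩ | ⟨⟨⟨hp, hdp⟩, hg⟩, h2⟩
      · refine ⟨1, one_mem _, ?_⟩
        rw [Units.val_one, mul_one, Nat.eq_of_beq_eq_true h2]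
        exact good_unit hn hk
      · obtain ⟨g, hgm, hgood⟩ := ih _ (hd ▸ Nat.le_of_ble_eq_true hdp) _ rfl (Nat.le_of_ble_eq_true hp)
        have hs : genOf (code t) < Gs.length := Nat.le_of_ble_eq_true hg
        refine ⟨g * us ⟨_, hs⟩, mul_mem hgm (Subgroup.subset_closure ⟨_, rfl⟩), ?_⟩
        rw [Units.val_mul, hus, ← Nat.eq_of_beq_eq_true h2, ← mul_assoc, ← (getG _ hs).1]
        exact hgood.mul hn hn' (getG _ hs).2
  choose g hgP hgood using fun t : Fin N => reach t t.2
  let Xs : Fin N → Matrix (Fin n) (Fin n) (ZMod 5) := fun t => X0 * (g t).val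
  have hXinj : Function.Injective Xs := by
    intro t s e
    have e' : pt t = pt s := good_num hn (hgood t) (show Good n (pt s) (Xs t) from e ▸ hgood s)
    rcases lt_trichotomy (t : ℕ) s with h' | h' | h'
    · exact absurd e' (hinc _ _ h' s.2).ne
    · exact Fin.ext h'
    · exact absurd e'.symm (hinc _ _ h' t.2).ne
  have closed : ∀ x ∈ Pg, ∀ X ∈ Set.range Xs, X * (x : (Matrix (Fin n) (Fin n) (ZMod 5))ˣ).val ∈ Set.range Xs := by
    intro x hx
    rw [hPg, ← Subgroup.mem_toSubmonoid, Subgroup.closure_toSubmonoid_of_finite] at hx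
    induction hx using Submonoid.closure_induction with
    | mem y hy =>
      obtain ⟨s, rfl⟩ := hy
      rintro _ ⟨t, rfl⟩
      have h1 := h t t.2
      simp only [treeOne, Bool.and_eq_true, List.all_eq_true, List.mem_range] at h1
      obtain ⟨hlt, hb⟩ := h1.2 s s.2
      refine ⟨⟨_, Nat.le_of_ble_eq_true hlt⟩, ?_⟩
      refine good_mat (hgood ⟨_, Nat.le_of_ble_eq_true hlt⟩) ?_
      show Good n (pt ((succs t).getD s N)) (Xs t * (us s).val)
      rw [hus, ← Nat.eq_of_beq_eq_true hb, ← (getG _ s.2).1]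
      exact (hgood t).mul hn hn' (getG _ s.2).2
    | one => intro X hX; simpa using hX
    | mul a b _ _ iha ihb =>
      intro X hX
      rw [Units.val_mul, ← mul_assoc]
      exact ihb _ (iha X hX)
  have h0 : X0 ∈ Set.range Xs := by
    obtain ⟨t, -, hmin⟩ := Finset.exists_min_image Finset.univ (fun t : Fin N => depOf (code t))
      ⟨⟨0, hN⟩, Finset.mem_univ _⟩
    have h1 := h t t.2
    simp only [treeOne, Bool.and_eq_true, forced'_eq, Bool.or_eq_true] at h1
    rcases h1.1.2 with ⟨-, h2⟩ | ⟨⟨⟨hp, hdp⟩, -⟩, -⟩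
    · exact ⟨t, good_mat (hgood t) (Nat.eq_of_beq_eq_true h2 ▸ good_unit hn hk)⟩
    · have h3 := hmin ⟨_, Nat.le_of_ble_eq_true hp⟩ (Finset.mem_univ _)
      have h4 := Nat.le_of_ble_eq_true hdp
      simp only at h3
      omega
  let f : Fin N → Pg ⧸ St := fun t => QuotientGroup.mk (⟨g t, hgP t⟩⁻¹ : Pg)
  have hf : Function.Bijective f := by
    constructor
    · intro t s e
      have hm := QuotientGroup.eq.1 e
      refine hXinj ?_
      show X0 * (g t).val = X0 * (g s).val
      have e2 : X0 * ((g t) * (g s)⁻¹).val = X0 := by simpa [St] using hm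
      have := congrArg (· * (g s).val) e2
      simpa [mul_assoc] using this
    · intro c
      obtain ⟨x, rfl⟩ := QuotientGroup.mk_surjective c
      obtain ⟨t, ht⟩ := closed _ (inv_mem x.2) X0 h0
      refine ⟨t, QuotientGroup.eq.2 ?_⟩
      show X0 * ((((⟨g t, hgP t⟩ : Pg)⁻¹)⁻¹ * x : Pg) : (Matrix (Fin n) (Fin n) (ZMod 5))ˣ).val = X0
      rw [inv_inv, Subgroup.coe_mul, Units.val_mul, ← mul_assoc, show X0 * (g t).val = Xs t from rfl, ht,
        mul_assoc, Units.inv_mul, mul_one]
  have hc := Nat.card_eq_of_bijective f hf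
  rw [Nat.card_fin] at hc
  rw [hc]
  exact St.index_dvd_card

end CfsgLib.Sporadic.CosetCert.LyIndex.Wide
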