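import Cfsg.Agent.Lib.Sporadic.LyIndex.Setting
import Cfsg.Agent.Lib.Sporadic.LyIndex.WideOrbit

/-!
# Words of the presented Lyons group as matrices of degree 111
-/

set_option autoImplicit false
set_option maxRecDepth 100000

namespace CfsgLib.Sporadic.CosetCert.LyIndex

open LyG2Five Cfsg.Spor WideMatrix

attribute [local irreducible] WideMatrix.mul okRows prodW oneW lane dec
  m_a m_ai m_b m_bi m_c m_ci m_d m_di m_e m_z m_zi m_c5 m_c5i

/-- The representation of degree 111. -/
noncomputable def rho : LyP →* M111ˣ := PresentedGroup.toGroup rels111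

theorem rho_of (x : Ly.Gen) : rho (PresentedGroup.of x) = FreeGroup.lift u111 (sub7 x) :=
  PresentedGroup.toGroup.of rels111

attribute [local irreducible] rho u111

theorem rho_fG (y : G7) : rho (fG y) = u111 y := by
  cases y <;> simp only [fG, rho_of, sub7, FreeGroup.lift_apply_of]

theorem rho_gL : ∀ x : ℕ, rho (gL x) = g13 x := by
  intro x
  match x with
  | 0 => exact rho_fG .a
  | 1 => exact (map_inv rho _).trans (congrArg _ (rho_fG .a))
  | 2 => exact rho_fG .b
  | 3 => exact (map_inv rho _).trans (congrArg _ (rho_fG .b))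
  | 4 => exact rho_fG .c
  | 5 => exact (map_inv rho _).trans (congrArg _ (rho_fG .c))
  | 6 => exact rho_fG .d
  | 7 => exact (map_inv rho _).trans (congrArg _ (rho_fG .d))
  | 8 => exact rho_fG .e
  | 9 => exact rho_fG .z
  | 10 => exact (map_inv rho _).trans (congrArg _ (rho_fG .z))
  | 11 => exact rho_fG .c5
  | 12 => exact (map_inv rho _).trans (congrArg _ (rho_fG .c5))
  | k + 13 => exact map_one rho

/-- The element of a word. -/
noncomputable def wordU (L : List ℕ) : LyP := (L.map gL).prod

theorem rho_wordU (L : List ℕ) : (rho (wordU L)).val = ((L.map lett111).map (dec 111)).prod := by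
  rw [wordU, map_list_prod, List.map_map, ← Units.coeHom_apply, map_list_prod, List.map_map, List.map_map]
  refine congrArg List.prod (List.map_congr_left fun x _ => ?_)
  simp only [Function.comp_apply, Units.coeHom_apply, rho_gL, g13_val]
  rfl

theorem ok_letters (L : List ℕ) : ∀ G ∈ L.map lett111, okRows 111 G = true := by
  intro G hG
  obtain ⟨x, -, rfl⟩ := List.mem_map.1 hG
  exact ok_all111 x

theorem good_word (L : List ℕ) :
    Good 111 (forced (prodW 111 (L.map lett111)) (oneW 111)) (rho (wordU L)).val := by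
  have h := (good_one (n := 111)).prodW (by norm_num) (by norm_num) (L.map lett111) (ok_letters L)
  rw [one_mul, ← rho_wordU] at h
  rwa [forced_eq]

/-- A matrix in the image of the representation. -/
def InRho (G : List ℕ) : Prop := okRows 111 G = true ∧ ∃ g : rho.range, (g : M111ˣ).val = dec 111 G

theorem inRho_lett (x : ℕ) : InRho (lett111 x) :=
  ⟨ok_all111 x, ⟨rho (gL x), ⟨_, rfl⟩⟩, by show (rho (gL x)).val = _; rw [rho_gL, g13_val]; rfl⟩

theorem inRho_prod : ∀ L : List (List ℕ), (∀ G ∈ L, InRho G) →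
    ∃ g : rho.range, (g : M111ˣ).val = (L.map (dec 111)).prod := by
  intro L
  induction L with
  | nil => intro _; exact ⟨1, by simp⟩
  | cons G t ih =>
    intro h
    obtain ⟨g, hg⟩ := (h G List.mem_cons_self).2
    obtain ⟨g', hg'⟩ := ih fun H hH => h H (List.mem_cons_of_mem _ hH)
    exact ⟨g * g', by rw [Subgroup.coe_mul, Units.val_mul, hg, hg', List.map_cons, List.prod_cons]⟩

/-- A product of matrices is the given matrix. -/
noncomputable def prodIs (L : List (List ℕ)) (G : List ℕ) : Bool :=
  Nat.beq (forced (prodW 111 L) (oneW 111)) (forced (prodW 111 [G]) (oneW 111))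

theorem prodIs_spec {L : List (List ℕ)} {G : List ℕ} (hL : ∀ H ∈ L, InRho H) (hG : okRows 111 G = true)
    (h : prodIs L G = true) : InRho G := by
  obtain ⟨g, hg⟩ := inRho_prod L hL
  refine ⟨hG, g, hg.trans ?_⟩
  have h1 := (good_one (n := 111)).prodW (by norm_num) (by norm_num) L (fun H hH => (hL H hH).1)
  have h2 := (good_one (n := 111)).prodW (by norm_num) (by norm_num) [G] (by simpa using hG)
  rw [one_mul] at h1
  rw [one_mul, List.map_cons, List.map_nil, List.prod_cons, List.prod_nil, mul_one] at h2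
  refine Wide.good_mat h1 ?_
  rw [prodIs, forced_eq, forced_eq] at h
  rw [Nat.eq_of_beq_eq_true h]
  exact h2

/-- A matrix has order p. -/
noncomputable def orderIs (G : List ℕ) (p : ℕ) : Bool :=
  Nat.beq (forced (prodW 111 (List.replicate p G)) (oneW 111)) (oneW 111) &&
    !Nat.beq (forced (prodW 111 [G]) (oneW 111)) (oneW 111)

theorem orderIs_spec {G : List ℕ} {p : ℕ} (hp : p.Prime) (hG : InRho G) (h : orderIs G p = true) :
    p ∣ Nat.card rho.range := by
  simp only [orderIs, Bool.and_eq_true, Bool.not_eq_true'] at h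
  obtain ⟨h1, h2⟩ := h
  obtain ⟨hok, g, hg⟩ := hG
  have hpow := (good_one (n := 111)).prodW (by norm_num) (by norm_num) (List.replicate p G)
    (fun H hH => (List.eq_of_mem_replicate hH) ▸ hok)
  rw [one_mul, List.map_replicate, List.prod_replicate, ← hg, ← Units.val_pow_eq_pow_val] at hpow
  rw [forced_eq] at h1 h2
  rw [Nat.eq_of_beq_eq_true h1] at hpow
  have e1 : (g : M111ˣ) ^ p = 1 := Units.ext (Wide.good_mat hpow good_one)
  have e2 : (g : M111ˣ) ≠ 1 := by
    intro e
    have h3 := (good_one (n := 111)).prodW (by norm_num) (by norm_num) [G] (by simpa using hok)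
    rw [one_mul, List.map_cons, List.map_nil, List.prod_cons, List.prod_nil, mul_one, ← hg, e, Units.val_one] at h3
    rw [Wide.good_num (by norm_num) h3 good_one] at h2
    exact Bool.false_ne_true (h2.symm.trans (Nat.beq_refl _))
  have : orderOf (g : M111ˣ) = p := (orderOf_eq_iff hp.pos).2 ⟨e1, fun m hm h0 e => ?_⟩
  · rw [← this, Subgroup.orderOf_coe]
    exact orderOf_dvd_natCard _
  · exact e2 (pow_eq_one_iff_of_coprime_aux hp hm h0 e1 e)
where
  /-- Coprime exponents. -/
  pow_eq_one_iff_of_coprime_aux {x : M111ˣ} {p m : ℕ} (hp : p.Prime) (hm : m < p) (h0 : 0 < m)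
      (e1 : x ^ p = 1) (e : x ^ m = 1) : x = 1 := by
    have hc : Nat.gcd m p = 1 := Nat.Coprime.gcd_eq_one ((hp.coprime_iff_not_dvd.2 (Nat.not_dvd_of_pos_of_lt h0 hm)).symm)
    have := pow_gcd_eq_one.2 ⟨e, e1⟩
    rwa [hc, pow_one] at this

end CfsgLib.Sporadic.CosetCert.LyIndex
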