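import Cfsg.Agent.Lib.Sporadic.LyIndex.Nodes
import Cfsg.Agent.Lib.Sporadic.LyIndex.Checks.Cover0
import Cfsg.Agent.Lib.Sporadic.LyIndex.Checks.Cover1
import Cfsg.Agent.Lib.Sporadic.LyIndex.Checks.Cover2
import Cfsg.Agent.Lib.Sporadic.LyIndex.Checks.Cover3
import Cfsg.Agent.Lib.Sporadic.LyIndex.Checks.Cover4
import Cfsg.Agent.Lib.Sporadic.LyIndex.Checks.Chains

/-!
# The cosets form five classes of known length
-/

set_option autoImplicit false
set_option maxRecDepth 100000

namespace CfsgLib.Sporadic.CosetCert.LyIndex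

open LyG2Five Cfsg.Spor PackedMatrix
open scoped Matrix

attribute [local instance] factPrimeFive

attribute [local irreducible] PackedMatrix.mul PackedMatrix.ok vimg scaleIs getN wordM covAt lineAt mulIs

/-- The stabiliser of a class. -/
def stab (i : ℕ) : Subgroup E where
  carrier := {k | RS (wG i * gE k) (wG i)}
  one_mem' := by
    show RS _ _
    rw [map_one, mul_one]; exact RS.refl _
  mul_mem' := by
    intro k l hk hl
    show RS _ _
    rw [map_mul, ← mul_assoc]
    exact (RS.mul hk _).trans hl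
  inv_mem' := by
    intro k hk
    have := (RS.symm hk).mul (gE k)⁻¹
    show RS _ _
    rw [map_inv]
    rwa [mul_assoc, mul_inv_cancel, mul_one] at this

theorem stab_mem {i g : ℕ} {K : List ℕ} (hg : g < numNd) (e : getN g = .s i K) : ∃ k ∈ stab i, Stands K k := by
  have h := sem_all g hg
  rw [e] at h
  obtain ⟨k, hk, hr⟩ := h
  exact ⟨k, hr, hk⟩

theorem stepOK_spec {i p g c y : ℕ} (h : stepOK i p g c y = true) (hy : y < 3906) :
    p < 3906 ∧ ∃ k ∈ stab i, (∃ K, getN g = .s i K ∧ Stands K k) ∧ ∀ x : V14, On x p → On (x ᵥ* mE k) y := by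
  simp only [stepOK, Bool.and_eq_true] at h
  obtain ⟨⟨hp, hg⟩, h⟩ := h
  have hp' : p < 3906 := Nat.le_of_ble_eq_true hp
  refine ⟨hp', ?_⟩
  split at h
  · rename_i i' K e
    simp only [Bool.and_eq_true] at h
    obtain rfl := Nat.eq_of_beq_eq_true h.1
    obtain ⟨k, hk, hK⟩ := stab_mem (Nat.le_of_ble_eq_true hg) e
    exact ⟨k, hk, ⟨K, e, hK⟩, fun x hx => hx.step hp' hy hK h.2⟩
  · exact absurd h Bool.false_ne_true

theorem covOne_all {i : ℕ} (hi : i < 5) {y : ℕ} (hy : y < 3906) : covOne i y = true := by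
  have hk : covChk i (y / 512) = true := by
    have h8 : y / 512 < 8 := by omega
    match i, hi with
    | 0, _ => exact covChk0 _ h8
    | 1, _ => exact covChk1 _ h8
    | 2, _ => exact covChk2 _ h8
    | 3, _ => exact covChk3 _ h8
    | 4, _ => exact covChk4 _ h8
  have h := List.all_eq_true.1 hk (y % 512) (List.mem_range.2 (Nat.mod_lt _ (by norm_num)))
  have e : Nat.add (Nat.mul 512 (y / 512)) (y % 512) = y := by
    show 512 * (y / 512) + y % 512 = y
    omega
  rw [e] at h
  rcases Bool.or_eq_true _ _ ▸ h with h1 | h1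
  · exact absurd (Nat.le_of_ble_eq_true h1) (by omega)
  · exact h1

theorem edgeOK_all {i : ℕ} (hi : i < 5) {o : ℕ} (ho : o < numOrb i) : edgeOK i o = true := by
  match i, hi with
  | 0, _ => exact edgeChk0 _ ho
  | 1, _ => exact edgeChk1 _ ho
  | 2, _ => exact edgeChk2 _ ho
  | 3, _ => exact edgeChk3 _ ho
  | 4, _ => exact edgeChk4 _ ho

/-- Every line is reached from the fixed one by an orbit word and a stabiliser element. -/
theorem cov_sound {i : ℕ} (hi : i < 5) : ∀ y < 3906, ∃ o < numOrb i, ∃ k ∈ stab i,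
    On (vec (lineAt base0) ᵥ* mE (wordE (orbAt i o).1 * k)) y := by
  intro y
  induction h : codeD (covAt i y) using Nat.strong_induction_on generalizing y with
  | _ n ih =>
    intro hy
    have hc := covOne_all hi hy
    simp only [covOne, forced_eq, Bool.or_eq_true, Bool.and_eq_true] at hc
    rcases hc with ⟨⟨-, ho⟩, hs⟩ | ⟨hd, hs⟩
    · refine ⟨_, Nat.le_of_ble_eq_true ho, 1, one_mem _, ?_⟩
      rw [mul_one]
      exact (on_self base0).step (by norm_num [base0]) hy (stands_word _) hs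
    · obtain ⟨hp, k, hk, -, hstep⟩ := stepOK_spec hs hy
      obtain ⟨o, ho, k', hk', hon⟩ := ih _ (h ▸ Nat.le_of_ble_eq_true hd) _ rfl hp
      refine ⟨o, ho, k' * k, mul_mem hk' hk, ?_⟩
      rw [← mul_assoc, map_mul, ← Matrix.vecMul_vecMul]
      exact hstep _ hon

/-- The stabiliser of the fixed line generated by a, b, c. -/
noncomputable def P : Subgroup E := Subgroup.closure {el 0, el 2, el 4}

theorem P_index : P.index ≤ 3906 ∧ P.index ≠ 0 := by
  obtain ⟨h1, h0⟩ := (reads_P rels_fE).relIndex_le certP_valid (by rw [letters_certP.2.2.2.2.1]; norm_num)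
  rw [letters_certP.2.2.2.1, letters_certP.2.2.2.2.1] at h1
  rw [letters_certP.2.2.2.1] at h0
  have hm : P.map E.subtype = Subgroup.closure {fE .a, fE .b, fE .c} := by
    rw [P, MonoidHom.map_closure, Set.image_insert_eq, Set.image_pair]; rfl
  have hc : Subgroup.closure (g9 fE '' Set.Iio 9) = E := by
    apply le_antisymm
    · rw [Subgroup.closure_le]
      rintro _ ⟨x, -, rfl⟩
      exact g9_mem fE x
    · rw [Subgroup.closure_le]
      rintro _ ⟨x, rfl⟩
      refine Subgroup.subset_closure ?_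
      cases x
      · exact ⟨0, by norm_num, rfl⟩
      · exact ⟨2, by norm_num, rfl⟩
      · exact ⟨4, by norm_num, rfl⟩
      · exact ⟨6, by norm_num, rfl⟩
      · exact ⟨8, by norm_num, rfl⟩
  have e : (P.map E.subtype).relIndex E = P.index := by
    rw [Subgroup.relIndex, Subgroup.subgroupOf, Subgroup.comap_map_eq_self_of_injective E.subtype_injective]
  rw [← hm, hc, e] at h1 h0
  exact ⟨h1, h0⟩

theorem P_le : P ≤ lineStab base0 := by
  rw [P, Subgroup.closure_le]
  have key : ∀ x < 3, el (2 * x) ∈ lineStab base0 := fun x hx => by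
    obtain ⟨c, -, hc⟩ := List.any_eq_true.1 (base_fix x hx)
    exact (on_self base0).step (by norm_num [base0]) (by norm_num [base0]) ⟨ok_lett14 _, mE_el _⟩ hc
  rintro _ (rfl | rfl | rfl)
  exacts [key 0 (by norm_num), key 1 (by norm_num), key 2 (by norm_num)]

/-- The elements moved by z into the subgroup. -/
def Dz : Subgroup E where
  carrier := {q | ∃ p, gE q * fG .z = fG .z * gE p}
  one_mem' := ⟨1, by simp⟩
  mul_mem' := by
    rintro a b ⟨p, hp⟩ ⟨q, hq⟩
    exact ⟨p * q, by rw [map_mul, map_mul, mul_assoc, hq, ← mul_assoc, hp, mul_assoc]⟩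
  inv_mem' := by
    rintro a ⟨p, hp⟩
    refine ⟨p⁻¹, ?_⟩
    rw [map_inv, map_inv]
    calc (gE a)⁻¹ * fG .z = (gE a)⁻¹ * (fG .z * gE p) * (gE p)⁻¹ := by group
      _ = fG .z * (gE p)⁻¹ := by rw [← hp]; group

theorem P_cosets : ∀ x ∈ P, ∃ d ∈ Dz, ∃ m < 5, x = d * wordE (fibWord m) := by
  intro x hx
  rw [P, ← Subgroup.mem_toSubmonoid, Subgroup.closure_toSubmonoid_of_finite] at hx
  suffices H : ∀ u, (∃ d ∈ Dz, ∃ m < 5, u = d * wordE (fibWord m)) → ∃ d ∈ Dz, ∃ m < 5, u * x = d * wordE (fibWord m) by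
    simpa using H 1 ⟨1, one_mem _, 0, by norm_num, by rw [fibWord_zero]; simp [wordE]⟩
  have key : ∀ s < 3, ∀ u, (∃ d ∈ Dz, ∃ m < 5, u = d * wordE (fibWord m)) →
      ∃ d ∈ Dz, ∃ m < 5, u * el (2 * s) = d * wordE (fibWord m) := by
    rintro s hs u ⟨d, hd, m, hm, rfl⟩
    have h := pairChk m hm s hs
    simp only [pairOK, Bool.and_eq_true] at h
    obtain ⟨⟨h2, hn⟩, h⟩ := h
    have hsem := sem_all _ (Nat.le_of_ble_eq_true hn)
    split at h
    · rename_i Q P' e
      rw [e] at hsem
      obtain ⟨q, p, hq, -, hqp⟩ := hsem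
      rw [forceList_eq] at h
      have eq : q * wordE (fibWord (pcTab.getD (Nat.add (Nat.mul 3 m) s) (numNd, 5)).2) = wordE (fibWord m) * el (2 * s) := by
        refine stands_eq (mulIs_spec hq (stands_word _) h) ?_
        refine ⟨ok_mul (by norm_num) (by norm_num) (wordM_spec _).1 _, ?_⟩
        rw [map_mul, (stands_word _).2, mE_el]
        exact (dec_mul (by norm_num) (by norm_num) (wordM_spec _).1 (ok_lett14 _)).symm
      exact ⟨d * q, mul_mem hd ⟨p, hqp⟩, _, Nat.le_of_ble_eq_true h2, by rw [mul_assoc, ← eq, mul_assoc]⟩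
    · exact absurd h Bool.false_ne_true
  induction hx using Submonoid.closure_induction with
  | mem s hs =>
    intro u hu
    rcases hs with rfl | rfl | rfl
    exacts [key 0 (by norm_num) u hu, key 1 (by norm_num) u hu, key 2 (by norm_num) u hu]
  | one => intro u hu; simpa using hu
  | mul a b _ _ iha ihb =>
    intro u hu
    rw [← mul_assoc]
    exact ihb _ (iha u hu)

/-- Every element of the subgroup is a stabiliser element, an edge and a pair. -/
theorem decompose {i : ℕ} (hi : i < 5) (h : E) : ∃ k ∈ stab i, ∃ o < numOrb i, ∃ m < 5, ∃ d ∈ Dz,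
    h = k * (wordE (fibWord m) * wordE (orbAt i o).1)⁻¹ * d := by
  choose o ho k hk hon using fun y : Fin 3906 => cov_sound hi y y.2
  let g : Fin 3906 → E := fun y => wordE (orbAt i (o y)).1 * k y
  let f : Fin 3906 → E ⧸ P := fun y => QuotientGroup.mk (g y)⁻¹
  have hf : Function.Injective f := by
    intro y y' e
    have hm := QuotientGroup.eq.1 e
    rw [inv_inv] at hm
    have h1 : On (vec (lineAt base0) ᵥ* mE (g y)) y' := by
      rw [show g y = (g y * (g y')⁻¹) * g y' by group, map_mul, ← Matrix.vecMul_vecMul]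
      exact On.act (P_le hm) (on_self base0) _ (hon y')
    exact Fin.ext (On.unique y.2 y'.2 (hon y) h1)
  have : Finite (E ⧸ P) := Nat.finite_of_card_ne_zero P_index.2
  have hb : Function.Bijective f :=
    hf.bijective_of_nat_card_le (by rw [Nat.card_fin]; exact P_index.1)
  obtain ⟨y, hy⟩ := hb.2 (QuotientGroup.mk h)
  have hm := QuotientGroup.eq.1 hy.symm
  obtain ⟨d, hd, m, hm5, e⟩ := P_cosets _ hm
  refine ⟨(k y)⁻¹, inv_mem (hk y), o y, ho y, m, hm5, d⁻¹, inv_mem hd, ?_⟩
  have e' : h = (d * wordE (fibWord m) * g y)⁻¹ := by rw [← e]; group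
  rw [e']
  simp only [g]
  group

theorem edge_sound {i : ℕ} (hi : i < 5) {o : ℕ} (ho : o < numOrb i) {m : ℕ} (hm : m < 5) :
    ∃ j t, RS (wG i * gE (wordE (fibWord m) * wordE (orbAt i o).1)⁻¹ * fG .z) (wG j * gE t) := by
  have h := List.all_eq_true.1 (edgeOK_all hi ho) m (List.mem_range.2 hm)
  simp only [Bool.and_eq_true] at h
  obtain ⟨hn, h⟩ := h
  have hsem := sem_all _ (Nat.le_of_ble_eq_true hn)
  split at h
  · rename_i i' R j T e
    rw [e] at hsem
    simp only [Bool.and_eq_true, forceList_eq] at h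
    obtain ⟨⟨hi', hR⟩, hW⟩ := h
    obtain rfl := Nat.eq_of_beq_eq_true hi'
    obtain ⟨r, t, hr, -, hrt⟩ := hsem
    have hw : Stands (PackedMatrix.mul 5 14 (wordM (fibWord m)) (wordM (orbAt i' o).1))
        (wordE (fibWord m) * wordE (orbAt i' o).1) := by
      refine ⟨ok_mul (by norm_num) (by norm_num) (wordM_spec _).1 _, ?_⟩
      rw [map_mul, (stands_word _).2, (stands_word _).2]
      exact (dec_mul (by norm_num) (by norm_num) (wordM_spec _).1 (wordM_spec _).1).symm
    have := stands_eq hr (quot_spec hR hw stands_one hW)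
    rw [one_mul] at this
    subst this
    exact ⟨j, t, hrt⟩
  · exact absurd h Bool.false_ne_true

end CfsgLib.Sporadic.CosetCert.LyIndex
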