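import Cfsg.Agent.Lib.Sporadic.LyIndex.Lines
import Cfsg.Agent.Lib.Sporadic.LyIndex.Data.CovTab
import Cfsg.Agent.Lib.Sporadic.LyIndex.Data.ChainTab

/-!
# Tests on orbits, pairs and chains
-/

set_option autoImplicit false
set_option maxRecDepth 100000

namespace CfsgLib.Sporadic.CosetCert.LyIndex

open PackedMatrix

/-- Parent or orbit. -/
def codeP (k : ℕ) : ℕ := Nat.mod k 4096
/-- Statement. -/
def codeG (k : ℕ) : ℕ := Nat.mod (Nat.div k 4096) 4096
/-- Scalar. -/
def codeC (k : ℕ) : ℕ := Nat.mod (Nat.div k 16777216) 8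
/-- Depth. -/
def codeD (k : ℕ) : ℕ := Nat.div k 134217728

/-- The entry of an orbit tree. -/
def covAt (i y : ℕ) : ℕ := get2 0 (covTabs.getD i []) y

/-- An orbit of the class `i`. -/
def orbAt (i o : ℕ) : List ℕ × ℕ × List ℕ := (orbTab.getD i []).getD o ([], 0, [])

/-- The number of orbits. -/
def numOrb (i : ℕ) : ℕ := (orbTab.getD i []).length

/-- A coset representative in the line stabiliser. -/
def fibWord (m : ℕ) : List ℕ := fibWords.getD m []

/-- A statement is about a stabiliser of the class. -/
noncomputable def stepOK (i p g c y : ℕ) : Bool :=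
  Nat.blt p 3906 && Nat.blt g numNd && match getN g with
    | .s i' K => Nat.beq i' i && scaleIs (vimg (lineAt p) K) c y
    | _ => false

/-- The test of an entry of an orbit tree. -/
noncomputable def covOne (i y : ℕ) : Bool :=
  forced (fun k =>
    (Nat.beq (codeD k) 0 && Nat.blt (codeP k) (numOrb i) &&
      scaleIs (vimg (lineAt base0) (wordM (orbAt i (codeP k)).1)) (codeC k) y) ||
    (Nat.blt (codeD (covAt i (codeP k))) (codeD k) && stepOK i (codeP k) (codeG k) (codeC k) y)) (covAt i y)

/-- The test of 512 entries. -/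
noncomputable def covChk (i k : ℕ) : Bool :=
  (List.range 512).all fun t => Nat.ble 3906 (Nat.add (Nat.mul 512 k) t) || covOne i (Nat.add (Nat.mul 512 k) t)

/-- The test of the five edges of an orbit. -/
noncomputable def edgeOK (i o : ℕ) : Bool :=
  (List.range 5).all fun m => Nat.blt ((orbAt i o).2.2.getD m numNd) numNd &&
    match getN ((orbAt i o).2.2.getD m numNd) with
    | .e i' R _ _ => Nat.beq i' i && ok 5 14 R &&
        forceList (PackedMatrix.mul 5 14 (wordM (fibWord m)) (wordM (orbAt i o).1)) (fun W => mulIs R W one14)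
    | _ => false

/-- The test of a pair. -/
noncomputable def pairOK (m s : ℕ) : Bool :=
  Nat.blt (pcTab.getD (Nat.add (Nat.mul 3 m) s) (numNd, 5)).2 5 &&
    Nat.blt (pcTab.getD (Nat.add (Nat.mul 3 m) s) (numNd, 5)).1 numNd &&
    match getN (pcTab.getD (Nat.add (Nat.mul 3 m) s) (numNd, 5)).1 with
    | .f Q _ => forceList (PackedMatrix.mul 5 14 (wordM (fibWord m)) (LyG2Five.lett14 (Nat.mul 2 s))) (fun W =>
        mulIs Q (wordM (fibWord (pcTab.getD (Nat.add (Nat.mul 3 m) s) (numNd, 5)).2)) W)
    | _ => false

/-- A level of a chain. -/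
abbrev Level : Type := ℕ × List ℕ × ℕ × List (List ℕ) × List (List ℕ)

/-- A member of a list. -/
def hasNum (g : ℕ) (L : List ℕ) : Bool := L.any (Nat.beq g)

/-- A statement is about the class. -/
def isStab (i g : ℕ) : Bool :=
  Nat.blt g numNd && match getN g with
    | .s i' _ => Nat.beq i' i
    | _ => false

/-- The test of one level. -/
noncomputable def levelOK (i : ℕ) : Level → Bool
  | (b, gs, n, yT, cT) => Nat.blt b 3906 && gs.all (isStab i) && (List.range n).all fun t =>
      Nat.blt (get2 0 yT t) 3906 && (Nat.ble n (Nat.succ t) || Nat.blt (get2 0 yT t) (get2 0 yT (Nat.succ t))) &&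
      forced (fun k =>
        (Nat.beq (codeD k) 0 && Nat.beq (get2 0 yT t) b) ||
        (Nat.blt (codeP k) n && Nat.blt (codeD (get2 0 cT (codeP k))) (codeD k) && hasNum (codeG k) gs &&
          stepOK i (get2 0 yT (codeP k)) (codeG k) (codeC k) (get2 0 yT t))) (get2 0 cT t)

/-- The generators of the next level fix the base. -/
noncomputable def linkOK (i b : ℕ) (gs gs' : List ℕ) : Bool :=
  gs'.all fun g => hasNum g gs && (List.range 5).any fun c => stepOK i b g c b

/-- The test of a chain. -/
noncomputable def chainOK (i : ℕ) : List Level → Bool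
  | [] => true
  | [l] => levelOK i l
  | l :: l' :: rest => levelOK i l && linkOK i l.1 l.2.1 l'.2.1 && chainOK i (l' :: rest)

/-- The product of the orbit lengths. -/
def chainProd : List Level → ℕ
  | [] => 1
  | l :: rest => l.2.2.1 * chainProd rest

/-- The chains. -/
def chains : List (List Level) := [[], chain1, chain2, chain3, chain4]

end CfsgLib.Sporadic.CosetCert.LyIndex
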