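import Cfsg.Agent.Lib.Sporadic.LyIndex.Setting

/-!
# Checked derivations of equalities of cosets in the presented Lyons group

A node is a statement about the cosets of the subgroup of the five letters, with matrices standing for
elements of that subgroup; each node names earlier nodes from which it follows.
-/

set_option autoImplicit false
set_option maxRecDepth 100000

namespace CfsgLib.Sporadic.CosetCert.LyIndex

open LyG2Five Cfsg.Spor PackedMatrix

attribute [local instance] factPrimeFive

/-- A statement: a stabiliser element, an edge, or a pair moved by z. -/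
inductive Nd
  | s (c : ℕ) (K : List ℕ)
  | e (i : ℕ) (R : List ℕ) (j : ℕ) (T : List ℕ)
  | f (Q P : List ℕ)

/-- A justification. -/
inductive Op
  | gen (x : ℕ)
  | one
  | base (k : ℕ)
  | mul (a b : ℕ)
  | inv (a : ℕ)
  | dfn (c : ℕ)
  | mult (k e q : ℕ)
  | rev (e : ℕ)
  | left (e : ℕ)
  | clash (a b : ℕ)
  | rel (r m st sc : ℕ) (pre : List ℕ)

/-- The identity, packed. -/
noncomputable def one14 : List ℕ := PackedMatrix.one 14

/-- A product is the given matrix. -/
noncomputable def mulIs (A B C : List ℕ) : Bool := eqList (PackedMatrix.mul 5 14 A B) C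

/-- The product of the two generators of the square of z. -/
def uWord : List ℕ := [0, 0]

/-- The letters are those of a, b, c, d. -/
def small8 (L : List ℕ) : Bool := L.all fun x => Nat.blt x 8

/-- The parents and words of the classes. -/
def defTab : List (ℕ × List ℕ) := [(0, []), (0, []), (1, [7, 3]), (1, [7, 5, 7]), (1, [7])]

/-- The representatives of the classes. -/
noncomputable def wG : ℕ → LyP
  | 1 => 1 * gE (wordE []) * fG .z
  | 2 => 1 * gE (wordE []) * fG .z * gE (wordE [7, 3]) * fG .z
  | 3 => 1 * gE (wordE []) * fG .z * gE (wordE [7, 5, 7]) * fG .z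
  | 4 => 1 * gE (wordE []) * fG .z * gE (wordE [7]) * fG .z
  | _ => 1

theorem wG_def {c : ℕ} (h1 : 1 ≤ c) (h2 : c < 5) :
    wG c = wG (defTab.getD c (0, [])).1 * gE (wordE (defTab.getD c (0, [])).2) * fG .z := by
  interval_cases c <;> rfl

/-- The test of a pair moved by z. -/
noncomputable def baseOK (k : ℕ) (Q P : List ℕ) : Bool :=
  Nat.blt k 8 && match relWord (72 + k) with
    | 10 :: t =>
      match split9 t with
      | (q, [p]) => small8 q && small8 p && eqList (wordM q) Q && ok 5 14 P && mulIs (wordM p) P one14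
      | _ => false
    | _ => false

/-- The inverse of z rewritten. -/
def flatZ : ℕ → List ℕ
  | 10 => [9, 1, 1]
  | x => [x]

/-- The pieces between the letters of z of a relation, as a cycle. -/
def segsOf (r : ℕ) : List (List ℕ) :=
  match (split9 ((relWord (81 + r)).flatMap flatZ)).2.reverse with
  | [] => []
  | l :: rest => ((l ++ (split9 ((relWord (81 + r)).flatMap flatZ)).1) :: rest).reverse

/-- Follow a relation. -/
noncomputable def relGo (get : ℕ → Nd) (nd : Nd) (n sc : ℕ) (g : List ℕ) :
    List ℕ → List (List ℕ) → ℕ → List ℕ → Bool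
  | [], [sl], cc, cur => small8 sl && match nd with
    | .e i R j T => Nat.beq i cc && Nat.beq j sc && eqList R cur && ok 5 14 T && mulIs T (wordM sl) g
    | _ => false
  | e :: es, s :: ss, cc, cur => small8 s && Nat.blt e n && match get e with
    | .e i R j T => Nat.beq i cc && eqList R cur &&
        forceList (PackedMatrix.mul 5 14 T (wordM s)) (relGo get nd n sc g es ss j)
    | _ => false
  | _, _, _, _ => false

/-- The test of one node. -/
noncomputable def check (get : ℕ → Nd) (n : ℕ) (nd : Nd) : Op → Bool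
  | .gen x => match nd with
    | .s c K => Nat.beq c 0 && Nat.blt x 8 && eqList (lett14 x) K
    | _ => false
  | .one => match nd with
    | .s _ K => eqList one14 K
    | .f Q P => eqList one14 Q && eqList one14 P
    | _ => false
  | .base k => match nd with
    | .f Q P => baseOK k Q P
    | _ => false
  | .mul a b => Nat.blt a n && Nat.blt b n && match nd, get a, get b with
    | .s c K, .s c1 A, .s c2 B => Nat.beq c c1 && Nat.beq c c2 && mulIs A B K
    | .f Q P, .f Q1 P1, .f Q2 P2 => mulIs Q1 Q2 Q && mulIs P1 P2 P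
    | _, _, _ => false
  | .inv a => Nat.blt a n && match nd, get a with
    | .s c K, .s c1 A => Nat.beq c c1 && ok 5 14 K && mulIs K A one14
    | .f Q P, .f Q1 P1 => ok 5 14 Q && mulIs Q Q1 one14 && ok 5 14 P && mulIs P P1 one14
    | _, _ => false
  | .dfn c => Nat.ble 1 c && Nat.blt c 5 && match nd with
    | .e i R j T => Nat.beq i (defTab.getD c (0, [])).1 && Nat.beq j c &&
        eqList (wordM (defTab.getD c (0, [])).2) R && eqList one14 T
    | _ => false
  | .mult k e q => Nat.blt k n && Nat.blt e n && Nat.blt q n && match nd, get k, get e, get q with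
    | .e i R j T, .s c K, .e i1 R1 j1 T1, .f Q P => Nat.beq i c && Nat.beq i i1 && Nat.beq j j1 &&
        forceList (PackedMatrix.mul 5 14 K R1) (fun X => mulIs X Q R) && mulIs T1 P T
    | _, _, _, _ => false
  | .rev e => Nat.blt e n && match nd, get e with
    | .e i R j T, .e i1 R1 j1 T1 => Nat.beq i j1 && Nat.beq j i1 && eqList T1 R && mulIs R1 (wordM uWord) T
    | _, _ => false
  | .left e => Nat.blt e n && match nd, get e with
    | .s c K, .e _ R1 _ _ => Nat.beq c 0 && eqList R1 K
    | _, _ => false
  | .clash a b => Nat.blt a n && Nat.blt b n && match nd, get a, get b with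
    | .s c K, .e i1 R1 j1 T1, .e i2 R2 j2 T2 => Nat.beq i1 i2 && Nat.beq j1 c && Nat.beq j2 c && eqList R1 R2 &&
        ok 5 14 K && mulIs K T2 T1
    | _, _, _ => false
  | .rel r m st sc pre => Nat.blt r 5 && Nat.blt st n && match get st with
    | .s c g => Nat.beq c 0 && relGo get nd n sc g pre ((segsOf r).rotate m) sc g
    | _ => false

/-- The subgroup of the five letters. -/
noncomputable abbrev Hs : Subgroup LyP := gE.range

/-- Two elements in the same coset. -/
def RS (x y : LyP) : Prop := x * y⁻¹ ∈ Hs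

theorem RS.refl (x : LyP) : RS x x := by rw [RS, mul_inv_cancel]; exact one_mem _

theorem RS.symm {x y : LyP} (h : RS x y) : RS y x := by
  have := inv_mem (s := Hs) h
  rwa [mul_inv_rev, inv_inv] at this

theorem RS.trans {x y z : LyP} (h : RS x y) (h' : RS y z) : RS x z := by
  have := mul_mem (s := Hs) h h'
  rwa [show x * y⁻¹ * (y * z⁻¹) = x * z⁻¹ by group] at this

theorem RS.mul {x y : LyP} (h : RS x y) (g : LyP) : RS (x * g) (y * g) := by
  show x * g * (y * g)⁻¹ ∈ Hs
  rwa [show x * g * (y * g)⁻¹ = x * y⁻¹ by group]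

/-- A matrix stands for an element. -/
def Stands (K : List ℕ) (k : E) : Prop := ok 5 14 K = true ∧ mE k = md14 K

/-- The meaning of a node. -/
def Sem : Nd → Prop
  | .s c K => ∃ k, Stands K k ∧ RS (wG c * gE k) (wG c)
  | .e i R j T => ∃ r t, Stands R r ∧ Stands T t ∧ RS (wG i * gE r * fG .z) (wG j * gE t)
  | .f Q P => ∃ q p, Stands Q q ∧ Stands P p ∧ gE q * fG .z = fG .z * gE p

theorem mulIs_spec {A B C : List ℕ} {a b : E} (ha : Stands A a) (hb : Stands B b) (h : mulIs A B C = true) :
    Stands C (a * b) := by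
  obtain rfl := eqList_spec _ _ h
  refine ⟨ok_mul (by norm_num) (by norm_num) ha.1 B, ?_⟩
  rw [map_mul, ha.2, hb.2]
  exact (dec_mul (by norm_num) (by norm_num) ha.1 hb.1).symm

theorem stands_one : Stands one14 1 := ⟨ok14.2.2, by rw [map_one]; exact md14_one.symm⟩

theorem stands_word (L : List ℕ) : Stands (wordM L) (wordE L) := ⟨(wordM_spec L).1, (wordM_spec L).2.symm⟩

theorem stands_eq {K : List ℕ} {k k' : E} (h : Stands K k) (h' : Stands K k') : k = k' :=
  mE_injective (h.2.trans h'.2.symm)

/-- A matrix times a known one. -/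
theorem quot_spec {A B C : List ℕ} {b c : E} (hA : ok 5 14 A = true) (hb : Stands B b) (hc : Stands C c)
    (h : mulIs A B C = true) : Stands A (c * b⁻¹) := by
  refine ⟨hA, ?_⟩
  obtain rfl := eqList_spec _ _ h
  rw [map_mul, hc.2, show md14 (PackedMatrix.mul 5 14 A B) = md14 A * md14 B from
    dec_mul (by norm_num) (by norm_num) hA hb.1, ← hb.2, mul_assoc, ← map_mul, mul_inv_cancel, map_one, mul_one]

theorem quot_spec' {A B C : List ℕ} {a c : E} (hB : ok 5 14 B = true) (ha : Stands A a) (hc : Stands C c)
    (h : mulIs A B C = true) : Stands B (a⁻¹ * c) := by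
  refine ⟨hB, ?_⟩
  obtain rfl := eqList_spec _ _ h
  rw [map_mul, hc.2, show md14 (PackedMatrix.mul 5 14 A B) = md14 A * md14 B from
    dec_mul (by norm_num) (by norm_num) ha.1 hB, ← ha.2, ← mul_assoc, ← map_mul, inv_mul_cancel, map_one, one_mul]

theorem wG_zero : wG 0 = 1 := rfl

theorem rs_zero (k : E) : RS (wG 0 * gE k) (wG 0) := by
  rw [wG_zero, one_mul, RS, inv_one, mul_one]
  exact ⟨k, rfl⟩

theorem small_word {L : List ℕ} (h : small8 L = true) : gE (wordE L) = (L.map gL).prod :=
  gE_wordE fun x hx => Nat.le_of_ble_eq_true (List.all_eq_true.1 h x hx)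

theorem z_sq : fG .z * fG .z = gE (wordE uWord) := by
  rw [small_word (by rfl)]
  have h := lyRel (i := 80) (r := (Ly.z ^ 2) * (Ly.u⁻¹)) (by norm_num) rfl
  simp only [map_mul, map_inv, map_pow, FreeGroup.lift_apply_of] at h
  rw [mul_inv_eq_one, ← of_eq .u] at h
  simp only [sub7, map_pow, FreeGroup.lift_apply_of, pow_two] at h
  show (PresentedGroup.of Ly.Gen.z : LyP) * PresentedGroup.of Ly.Gen.z = _
  rw [h]
  simp [uWord, gL]

theorem base_sound {k : ℕ} {Q P : List ℕ} (h : baseOK k Q P = true) : Sem (.f Q P) := by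
  simp only [baseOK, Bool.and_eq_true] at h
  obtain ⟨hk, h⟩ := h
  have hk' : k < 8 := Nat.le_of_ble_eq_true hk
  have hr := relWord_eq (i := 72 + k) (by omega)
  split at h
  · rename_i t e1
    split at h
    · rename_i q p e2
      simp only [Bool.and_eq_true] at h
      obtain ⟨⟨⟨⟨sq, sp⟩, eQ⟩, okP⟩, eP⟩ := h
      rw [e1, List.map_cons, List.prod_cons, split9_prod, e2] at hr
      obtain rfl := eqList_spec _ _ eQ
      refine ⟨wordE q, (wordE p)⁻¹ * 1, stands_word q, quot_spec' okP (stands_word p) stands_one eP, ?_⟩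
      rw [mul_one, map_inv, small_word sq, small_word sp]
      simp only [List.map_cons, List.map_nil, List.prod_cons, List.prod_nil, mul_one] at hr
      generalize (q.map gL).prod = Q' at hr ⊢
      generalize (p.map gL).prod = P' at hr ⊢
      change (fG .z)⁻¹ * (Q' * (fG .z * P')) = 1 at hr
      calc Q' * fG .z = fG .z * ((fG .z)⁻¹ * (Q' * (fG .z * P'))) * P'⁻¹ := by group
        _ = fG .z * P'⁻¹ := by rw [hr, mul_one]
    · exact absurd h Bool.false_ne_true
  · exact absurd h Bool.false_ne_true

theorem zi_eq : (fG .z)⁻¹ = fG .z * gL 1 * gL 1 := by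
  have h := z_sq
  rw [small_word (by rfl)] at h
  have h1 : gL 1 = (fG .a)⁻¹ := rfl
  simp only [uWord, List.map_cons, List.map_nil, List.prod_cons, List.prod_nil, mul_one] at h
  change fG .z * fG .z = fG .a * fG .a at h
  rw [h1, inv_eq_iff_mul_eq_one, mul_assoc, ← mul_inv_rev, ← h]
  group

theorem flatZ_prod (L : List ℕ) : ((L.flatMap flatZ).map gL).prod = (L.map gL).prod := by
  induction L with
  | nil => rfl
  | cons x t ih =>
    rw [List.flatMap_cons, List.map_append, List.prod_append, ih, List.map_cons, List.prod_cons]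
    congr 1
    unfold flatZ
    split
    · simp only [List.map_cons, List.map_nil, List.prod_cons, List.prod_nil, mul_one]
      show gL 9 * (gL 1 * gL 1) = gL 10
      rw [show gL 10 = (fG .z)⁻¹ from rfl, zi_eq, mul_assoc]
      rfl
    · simp

theorem segs_prod {r : ℕ} (hr : r < 5) :
    ((segsOf r).map fun s => fG .z * (s.map gL).prod).prod = 1 := by
  have h := (flatZ_prod _).trans (relWord_eq (i := 81 + r) (by omega))
  rw [split9_prod] at h
  rw [segsOf]
  generalize (split9 ((relWord (81 + r)).flatMap flatZ)).1 = h0 at h ⊢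
  generalize (split9 ((relWord (81 + r)).flatMap flatZ)).2 = ss at h ⊢
  rcases List.eq_nil_or_concat ss with rfl | ⟨rest, l, rfl⟩
  · rfl
  · simp only [List.reverse_append, List.reverse_cons, List.reverse_nil, List.nil_append, List.cons_append,
      List.reverse_reverse, List.map_append, List.map_cons, List.map_nil, List.prod_append, List.prod_cons,
      List.prod_nil, mul_one, List.concat_eq_append] at h ⊢
    generalize (List.map (fun s => fG .z * (s.map gL).prod) rest).prod = R at h ⊢
    generalize (h0.map gL).prod = H0 at h ⊢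
    generalize (l.map gL).prod = L at h ⊢
    rw [eq_inv_of_mul_eq_one_left h]
    group

theorem relGo_sound (get : ℕ → Nd) (n : ℕ) (hget : ∀ m < n, Sem (get m)) (nd : Nd) (sc : ℕ) (G : List ℕ) (g : E)
    (hG : Stands G g) : ∀ (pre : List ℕ) (ss : List (List ℕ)) (cc : ℕ) (cur : List ℕ) (k : E), Stands cur k →
      relGo get nd n sc G pre ss cc cur = true →
      RS (wG cc * gE k * (ss.map fun s => fG .z * (s.map gL).prod).prod) (wG sc * gE g) → Sem nd := by
  intro pre
  induction pre with
  | nil =>
    intro ss cc cur k hk h hrs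
    rcases ss with _ | ⟨sl, _ | ⟨s2, ss⟩⟩
    · exact absurd h Bool.false_ne_true
    · simp only [relGo, Bool.and_eq_true] at h
      obtain ⟨hs, h⟩ := h
      cases nd with
      | e i R j T =>
        simp only [Bool.and_eq_true] at h
        obtain ⟨⟨⟨⟨hi, hj⟩, hR⟩, hT⟩, hM⟩ := h
        obtain rfl := Nat.eq_of_beq_eq_true hi
        obtain rfl := Nat.eq_of_beq_eq_true hj
        obtain rfl := eqList_spec _ _ hR
        refine ⟨k, g * (wordE sl)⁻¹, hk, quot_spec hT (stands_word sl) hG hM, ?_⟩
        simp only [List.map_cons, List.map_nil, List.prod_cons, List.prod_nil, mul_one] at hrs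
        have := hrs.mul (gE (wordE sl))⁻¹
        rw [map_mul, map_inv, small_word hs] at *
        simp only [mul_assoc, mul_inv_cancel, mul_one] at this ⊢
        exact this
      | s c K => exact absurd h Bool.false_ne_true
      | f Q P => exact absurd h Bool.false_ne_true
    · exact absurd h Bool.false_ne_true
  | cons e es ih =>
    intro ss cc cur k hk h hrs
    rcases ss with _ | ⟨s, ss⟩
    · exact absurd h Bool.false_ne_true
    · simp only [relGo, Bool.and_eq_true] at h
      obtain ⟨⟨hs, he⟩, h⟩ := h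
      have hsem := hget e (Nat.le_of_ble_eq_true he)
      split at h
      · rename_i i R j T hge
        rw [hge] at hsem
        obtain ⟨r, t, hr, ht, hrt⟩ := hsem
        simp only [Bool.and_eq_true, forceList_eq] at h
        obtain ⟨⟨hi, hR⟩, h⟩ := h
        obtain rfl := Nat.eq_of_beq_eq_true hi
        obtain rfl := eqList_spec _ _ hR
        obtain rfl := stands_eq hr hk
        refine ih ss j _ (t * wordE s) ⟨ok_mul (by norm_num) (by norm_num) ht.1 _, ?_⟩ h ?_
        · rw [map_mul, ht.2, (stands_word s).2]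
          exact (dec_mul (by norm_num) (by norm_num) ht.1 (stands_word s).1).symm
        · refine RS.trans ?_ hrs
          rw [map_mul, small_word hs, List.map_cons, List.prod_cons]
          have := (hrt.symm).mul ((s.map gL).prod * (ss.map fun s => fG .z * (s.map gL).prod).prod)
          simp only [mul_assoc] at this ⊢
          exact this
      · exact absurd h Bool.false_ne_true

theorem check_sound (get : ℕ → Nd) (n : ℕ) (hget : ∀ m < n, Sem (get m)) (nd : Nd) (op : Op)
    (h : check get n nd op = true) : Sem nd := by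
  have H : ∀ {a}, Nat.blt a n = true → Sem (get a) := fun ha => hget _ (Nat.le_of_ble_eq_true ha)
  cases op with
  | gen x =>
    cases nd with
    | s c K =>
      simp only [check, Bool.and_eq_true] at h
      obtain ⟨⟨hc, -⟩, hK⟩ := h
      obtain rfl := Nat.eq_of_beq_eq_true hc
      obtain rfl := eqList_spec _ _ hK
      exact ⟨el x, ⟨ok_lett14 x, mE_el x⟩, rs_zero _⟩
    | _ => exact absurd h Bool.false_ne_true
  | one =>
    cases nd with
    | s c K =>
      change eqList one14 K = true at h
      obtain rfl := eqList_spec _ _ h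
      exact ⟨1, stands_one, by rw [map_one, mul_one]; exact RS.refl _⟩
    | f Q P =>
      simp only [check, Bool.and_eq_true] at h
      obtain rfl := eqList_spec _ _ h.1
      obtain rfl := eqList_spec _ _ h.2
      exact ⟨1, 1, stands_one, stands_one, by rw [map_one, one_mul, mul_one]⟩
    | e => exact absurd h Bool.false_ne_true
  | base k =>
    cases nd with
    | f Q P => exact base_sound h
    | _ => exact absurd h Bool.false_ne_true
  | mul a b =>
    simp only [check, Bool.and_eq_true] at h
    obtain ⟨⟨ha, hb⟩, h⟩ := h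
    have hA := H ha
    have hB := H hb
    split at h
    · rename_i c K c1 A c2 B e1 e2
      rw [e1] at hA
      rw [e2] at hB
      simp only [Bool.and_eq_true] at h
      obtain ⟨⟨h1, h2⟩, h3⟩ := h
      obtain rfl := Nat.eq_of_beq_eq_true h1
      obtain rfl := Nat.eq_of_beq_eq_true h2
      obtain ⟨x, hx, rx⟩ := hA
      obtain ⟨y, hy, ry⟩ := hB
      refine ⟨x * y, mulIs_spec hx hy h3, ?_⟩
      rw [map_mul, ← mul_assoc]
      exact (rx.mul _).trans ry
    · rename_i Q P Q1 P1 Q2 P2 e1 e2
      rw [e1] at hA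
      rw [e2] at hB
      simp only [Bool.and_eq_true] at h
      obtain ⟨x, x', hx, hx', rx⟩ := hA
      obtain ⟨y, y', hy, hy', ry⟩ := hB
      refine ⟨x * y, x' * y', mulIs_spec hx hy h.1, mulIs_spec hx' hy' h.2, ?_⟩
      rw [map_mul, map_mul, mul_assoc, ry, ← mul_assoc, rx, mul_assoc]
    · exact absurd h Bool.false_ne_true
  | inv a =>
    simp only [check, Bool.and_eq_true] at h
    obtain ⟨ha, h⟩ := h
    have hA := H ha
    split at h
    · rename_i c K c1 A e1
      rw [e1] at hA
      simp only [Bool.and_eq_true] at h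
      obtain ⟨⟨h1, hK⟩, h3⟩ := h
      obtain rfl := Nat.eq_of_beq_eq_true h1
      obtain ⟨x, hx, rx⟩ := hA
      refine ⟨1 * x⁻¹, quot_spec hK hx stands_one h3, ?_⟩
      have := rx.symm.mul (gE x)⁻¹
      rw [one_mul, map_inv]
      rwa [mul_assoc, mul_inv_cancel, mul_one] at this
    · rename_i Q P Q1 P1 e1
      rw [e1] at hA
      simp only [Bool.and_eq_true] at h
      obtain ⟨⟨⟨hQ, hQ'⟩, hP⟩, hP'⟩ := h
      obtain ⟨x, x', hx, hx', rx⟩ := hA
      refine ⟨1 * x⁻¹, 1 * x'⁻¹, quot_spec hQ hx stands_one hQ', quot_spec hP hx' stands_one hP', ?_⟩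
      rw [one_mul, one_mul, map_inv, map_inv]
      calc (gE x)⁻¹ * fG .z = (gE x)⁻¹ * (fG .z * gE x') * (gE x')⁻¹ := by group
        _ = fG .z * (gE x')⁻¹ := by rw [← rx]; group
    · exact absurd h Bool.false_ne_true
  | dfn c =>
    simp only [check, Bool.and_eq_true] at h
    obtain ⟨⟨h1, h2⟩, h⟩ := h
    cases nd with
    | e i R j T =>
      simp only [Bool.and_eq_true] at h
      obtain ⟨⟨⟨hi, hj⟩, hR⟩, hT⟩ := h
      obtain rfl := Nat.eq_of_beq_eq_true hi
      obtain rfl := Nat.eq_of_beq_eq_true hj
      obtain rfl := eqList_spec _ _ hR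
      obtain rfl := eqList_spec _ _ hT
      refine ⟨_, 1, stands_word _, stands_one, ?_⟩
      rw [map_one, mul_one, ← wG_def (Nat.le_of_ble_eq_true h1) (Nat.le_of_ble_eq_true h2)]
      exact RS.refl _
    | _ => exact absurd h Bool.false_ne_true
  | mult k e q =>
    simp only [check, Bool.and_eq_true] at h
    obtain ⟨⟨⟨hk, he⟩, hq⟩, h⟩ := h
    have hK := H hk
    have hE := H he
    have hQ := H hq
    split at h
    · rename_i i R j T c K i1 R1 j1 T1 Q P e1 e2 e3
      rw [e1] at hK
      rw [e2] at hE
      rw [e3] at hQ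
      simp only [Bool.and_eq_true, forceList_eq] at h
      obtain ⟨⟨⟨⟨h1, h2⟩, h3⟩, hR⟩, hT⟩ := h
      obtain rfl := Nat.eq_of_beq_eq_true h1
      obtain rfl := Nat.eq_of_beq_eq_true h2
      obtain rfl := Nat.eq_of_beq_eq_true h3
      obtain ⟨x, hx, rx⟩ := hK
      obtain ⟨r, t, hr, ht, rt⟩ := hE
      obtain ⟨y, y', hy, hy', ry⟩ := hQ
      have hKR : Stands (PackedMatrix.mul 5 14 K R1) (x * r) := by
        refine ⟨ok_mul (by norm_num) (by norm_num) hx.1 _, ?_⟩
        rw [map_mul, hx.2, hr.2]
        exact (dec_mul (by norm_num) (by norm_num) hx.1 hr.1).symm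
      refine ⟨x * r * y, t * y', mulIs_spec hKR hy hR, mulIs_spec ht hy' hT, ?_⟩
      have h4 := rx.mul (gE r * fG .z * gE y')
      have h5 := rt.mul (gE y')
      rw [map_mul, map_mul, map_mul]
      simp only [mul_assoc] at h4 h5 ⊢
      rw [ry]
      exact h4.trans h5
    · exact absurd h Bool.false_ne_true
  | rev e =>
    simp only [check, Bool.and_eq_true] at h
    obtain ⟨he, h⟩ := h
    have hE := H he
    split at h
    · rename_i i R j T i1 R1 j1 T1 e1
      rw [e1] at hE
      simp only [Bool.and_eq_true] at h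
      obtain ⟨⟨⟨h1, h2⟩, h3⟩, h4⟩ := h
      obtain rfl := Nat.eq_of_beq_eq_true h1
      obtain rfl := Nat.eq_of_beq_eq_true h2
      obtain rfl := eqList_spec _ _ h3
      obtain ⟨r, t, hr, ht, rt⟩ := hE
      refine ⟨t, r * wordE uWord, ht, mulIs_spec hr (stands_word uWord) h4, ?_⟩
      have h5 := rt.symm.mul (fG .z)
      rw [map_mul, ← z_sq]
      simp only [mul_assoc] at h5 ⊢
      exact h5
    · exact absurd h Bool.false_ne_true
  | left e =>
    simp only [check, Bool.and_eq_true] at h
    obtain ⟨he, h⟩ := h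
    have hE := H he
    split at h
    · rename_i c K i1 R1 j1 T1 e1
      rw [e1] at hE
      simp only [Bool.and_eq_true] at h
      obtain rfl := Nat.eq_of_beq_eq_true h.1
      obtain rfl := eqList_spec _ _ h.2
      obtain ⟨r, t, hr, -, -⟩ := hE
      exact ⟨r, hr, rs_zero r⟩
    · exact absurd h Bool.false_ne_true
  | clash a b =>
    simp only [check, Bool.and_eq_true] at h
    obtain ⟨⟨ha, hb⟩, h⟩ := h
    have hA := H ha
    have hB := H hb
    split at h
    · rename_i c K i1 R1 j1 T1 i2 R2 j2 T2 e1 e2
      rw [e1] at hA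
      rw [e2] at hB
      simp only [Bool.and_eq_true] at h
      obtain ⟨⟨⟨⟨⟨h1, h2⟩, h3⟩, h4⟩, h5⟩, h6⟩ := h
      obtain rfl := Nat.eq_of_beq_eq_true h1
      obtain rfl := Nat.eq_of_beq_eq_true h2
      obtain rfl := Nat.eq_of_beq_eq_true h3
      obtain rfl := eqList_spec _ _ h4
      obtain ⟨r, t, hr, ht, rt⟩ := hA
      obtain ⟨r', t', hr', ht', rt'⟩ := hB
      obtain rfl := stands_eq hr' hr
      refine ⟨t * t'⁻¹, quot_spec h5 ht' ht h6, ?_⟩
      have h7 := (rt.symm.trans rt').mul (gE t')⁻¹
      rw [map_mul, map_inv]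
      simp only [mul_assoc, mul_inv_cancel, mul_one] at h7 ⊢
      exact h7
    · exact absurd h Bool.false_ne_true
  | rel r m st sc pre =>
    simp only [check, Bool.and_eq_true] at h
    obtain ⟨⟨hr, hst⟩, h⟩ := h
    have hS := H hst
    split at h
    · rename_i c g e1
      rw [e1] at hS
      simp only [Bool.and_eq_true] at h
      obtain ⟨x, hx, -⟩ := hS
      refine relGo_sound get n hget nd sc g x hx pre _ sc g x hx h.2 ?_
      rw [List.map_rotate, List.prod_rotate_eq_one_of_prod_eq_one (segs_prod (Nat.le_of_ble_eq_true hr)), mul_one]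
      exact RS.refl _
    · exact absurd h Bool.false_ne_true

end CfsgLib.Sporadic.CosetCert.LyIndex
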