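import Cfsg.Agent.Lib.Sporadic.LyIndex.Tables
import Cfsg.Agent.Lib.Sporadic.LyIndex.Data.LineTab
import Mathlib.Data.Matrix.Mul

/-!
# Lines moved by the matrices of degree 14

Lines are numbered; the subgroup of a line and a count of orbits along a chain of subgroups.
-/

set_option autoImplicit false
set_option maxRecDepth 100000

namespace CfsgLib.Sporadic.CosetCert.LyIndex

open LyG2Five Cfsg.Spor PackedMatrix
open scoped Matrix

attribute [local instance] factPrimeFive

/-- Rows of length 14. -/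
abbrev V14 : Type := Fin 14 → ZMod 5

/-- The row of a packed number. -/
def vec (w : ℕ) : V14 := fun j => ((dig w j : ℕ) : ZMod 5)

/-- The line with a given number. -/
def lineAt (y : ℕ) : ℕ := get2 0 lnTab y

/-- The image of a packed row. -/
noncomputable def vimg (w : ℕ) (K : List ℕ) : ℕ :=
  forced (fun w' => forced (red 5 14) (rowMul K w' 0)) w

/-- A row is the given multiple of a line. -/
noncomputable def scaleIs (v c y : ℕ) : Bool :=
  Nat.blt 0 c && Nat.blt c 5 && Nat.beq v (red 5 14 (Nat.mul c (lineAt y)))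

/-- A row with leading entry one. -/
noncomputable def normOK (w : ℕ) : Bool :=
  Nat.beq (red 5 14 w) w &&
    (List.range 14).any fun p => Nat.beq (dig w p) 1 && (List.range p).all fun j => Nat.beq (dig w j) 0

/-- The test of 64 lines. -/
noncomputable def lineChk (k : ℕ) : Bool :=
  (List.range 64).all fun t => Nat.ble 3906 (Nat.add (Nat.mul 64 k) t) ||
    (normOK (lineAt (Nat.add (Nat.mul 64 k) t)) && (Nat.ble 3905 (Nat.add (Nat.mul 64 k) t) ||
      Nat.blt (lineAt (Nat.add (Nat.mul 64 k) t)) (lineAt (Nat.add (Nat.mul 64 k) (Nat.succ t)))))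

theorem lineChk_all : (List.range 62).all lineChk = true := by decide +kernel

theorem line_spec {y : ℕ} (hy : y < 3906) :
    normOK (lineAt y) = true ∧ (y + 1 < 3906 → lineAt y < lineAt (y + 1)) := by
  have h := List.all_eq_true.1 lineChk_all (y / 64) (List.mem_range.2 (by omega))
  have h' := List.all_eq_true.1 h (y % 64) (List.mem_range.2 (Nat.mod_lt _ (by norm_num)))
  have e : Nat.add (Nat.mul 64 (y / 64)) (y % 64) = y := by
    show 64 * (y / 64) + y % 64 = y
    omega
  have e' : Nat.add (Nat.mul 64 (y / 64)) (Nat.succ (y % 64)) = y + 1 := by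
    show 64 * (y / 64) + (y % 64 + 1) = y + 1
    omega
  rw [e, e'] at h'
  simp only [Bool.or_eq_true, Bool.and_eq_true] at h'
  rcases h' with h1 | ⟨h1, h2⟩
  · exact absurd (Nat.le_of_ble_eq_true h1) (by omega)
  · refine ⟨h1, fun hlt => ?_⟩
    rcases h2 with h2 | h2
    · exact absurd (Nat.le_of_ble_eq_true h2) (by omega)
    · exact Nat.le_of_ble_eq_true h2

theorem red_line {y : ℕ} (hy : y < 3906) : red 5 14 (lineAt y) = lineAt y := by
  have h := (line_spec hy).1
  simp only [normOK, Bool.and_eq_true] at h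
  exact Nat.eq_of_beq_eq_true h.1

theorem line_strict {x y : ℕ} (hxy : x < y) (hy : y < 3906) : lineAt x < lineAt y := by
  induction y with
  | zero => omega
  | succ y ih =>
    have h := (line_spec (y := y) (by omega)).2 hy
    rcases Nat.lt_succ_iff_lt_or_eq.1 hxy with h' | rfl
    · exact (ih h' (by omega)).trans h
    · exact h

theorem dig_lt {w : ℕ} (h : red 5 14 w = w) {j : ℕ} (hj : j < 14) : dig w j < 5 := by
  rw [← h, dig_red (by norm_num) (by norm_num) _ hj]
  exact Nat.mod_lt _ (by norm_num)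

theorem eq_of_vec {w w' : ℕ} (h : red 5 14 w = w) (h' : red 5 14 w' = w') (e : vec w = vec w') : w = w' := by
  rw [← h, ← h', red_eq, red_eq]
  refine Finset.sum_congr rfl fun k hk => ?_
  rw [Finset.mem_range] at hk
  have := congrArg ZMod.val (congrFun e ⟨k, hk⟩)
  simp only [vec, ZMod.val_natCast] at this
  rw [this]

theorem vec_scale {w c : ℕ} (h : red 5 14 w = w) (hc : c < 5) :
    vec (red 5 14 (Nat.mul c w)) = (c : ZMod 5) • vec w := by
  have e : Nat.mul c w = ∑ k ∈ Finset.range 14, c * dig w k * 65536 ^ k := by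
    show c * w = _
    conv_lhs => rw [← h, red_eq, Finset.mul_sum]
    refine Finset.sum_congr rfl fun k hk => ?_
    rw [Nat.mod_eq_of_lt (dig_lt h (Finset.mem_range.1 hk)), mul_assoc]
  funext j
  show ((dig (red 5 14 (Nat.mul c w)) j : ℕ) : ZMod 5) = (c : ZMod 5) * ((dig w j : ℕ) : ZMod 5)
  rw [dig_red (by norm_num) (by norm_num) _ j.2, ZMod.natCast_mod, e,
    dig_sum 14 _ (fun k hk => ?_) j j.2, Nat.cast_mul]
  have := dig_lt h hk
  calc c * dig w k ≤ 4 * 4 := Nat.mul_le_mul (by omega) (by omega)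
    _ < 65536 := by norm_num

theorem vimg_spec {w : ℕ} {K : List ℕ} (h : red 5 14 w = w) (hK : ok 5 14 K = true) :
    vec (vimg w K) = vec w ᵥ* md14 K := by
  have hA : ok 5 14 (List.replicate 14 w) = true := by
    rw [ok, Bool.and_eq_true, Nat.beq_eq, List.all_eq_true]
    refine ⟨List.length_replicate, fun a ha => ?_⟩
    obtain rfl := List.eq_of_mem_replicate ha
    rw [Nat.beq_eq]
    exact h
  have e := congrFun (dec_mul (p := 5) (n := 14) (by norm_num) (by norm_num) hA hK) 0
  funext j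
  have e' := congrFun e j
  have g0 : (List.replicate 14 w).getD 0 0 = w := rfl
  simp only [dec, show (((0 : Fin 14) : ℕ)) = 0 from rfl, mul_getD _ _ (show (0 : ℕ) < (List.replicate 14 w).length by simp),
    g0] at e'
  show ((dig (vimg w K) j : ℕ) : ZMod 5) = _
  rw [vimg, forced_eq, forced_eq, e']
  rfl

/-- A row on a line. -/
def On (x : V14) (y : ℕ) : Prop := ∃ c : ZMod 5, c ≠ 0 ∧ x = c • vec (lineAt y)

theorem on_self (y : ℕ) : On (vec (lineAt y)) y := ⟨1, one_ne_zero, (one_smul _ _).symm⟩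

theorem vec_vimg {p y c : ℕ} {K : List ℕ} {k : E} (hp : p < 3906) (hy : y < 3906) (hK : Stands K k)
    (h : scaleIs (vimg (lineAt p) K) c y = true) :
    ∃ c' : ZMod 5, c' ≠ 0 ∧ vec (lineAt p) ᵥ* mE k = c' • vec (lineAt y) := by
  simp only [scaleIs, Bool.and_eq_true] at h
  obtain ⟨⟨h0, h5⟩, he⟩ := h
  have h5' : c < 5 := Nat.le_of_ble_eq_true h5
  have h0' : 0 < c := Nat.le_of_ble_eq_true h0
  refine ⟨(c : ZMod 5), fun e => ?_, ?_⟩
  · have := congrArg ZMod.val e
    rw [ZMod.val_natCast, ZMod.val_zero, Nat.mod_eq_of_lt h5'] at this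
    omega
  · rw [hK.2, ← vimg_spec (red_line hp) hK.1, Nat.eq_of_beq_eq_true he, vec_scale (red_line hy) h5']

theorem On.step {x : V14} {p y c : ℕ} {K : List ℕ} {k : E} (hx : On x p) (hp : p < 3906) (hy : y < 3906)
    (hK : Stands K k) (h : scaleIs (vimg (lineAt p) K) c y = true) : On (x ᵥ* mE k) y := by
  obtain ⟨d, hd, rfl⟩ := hx
  obtain ⟨c', hc, e⟩ := vec_vimg hp hy hK h
  exact ⟨d * c', mul_ne_zero hd hc, by rw [Matrix.smul_vecMul, e, smul_smul]⟩

theorem On.unique {x : V14} {y y' : ℕ} (hy : y < 3906) (hy' : y' < 3906) (h : On x y) (h' : On x y') : y = y' := by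
  obtain ⟨c, hc, rfl⟩ := h
  obtain ⟨c', hc', e⟩ := h'
  have n1 := (line_spec hy).1
  have n2 := (line_spec hy').1
  simp only [normOK, Bool.and_eq_true, List.any_eq_true, List.all_eq_true, List.mem_range, Nat.beq_eq] at n1 n2
  obtain ⟨r1, p1, hp1, a1, b1⟩ := n1
  obtain ⟨r2, p2, hp2, a2, b2⟩ := n2
  have e1 := congrFun e ⟨p1, hp1⟩
  have e2 := congrFun e ⟨p2, hp2⟩
  simp only [Pi.smul_apply, smul_eq_mul, vec] at e1 e2
  rw [a1, Nat.cast_one, mul_one] at e1
  rw [a2, Nat.cast_one, mul_one] at e2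
  rcases lt_trichotomy p1 p2 with hlt | rfl | hlt
  · rw [b2 p1 hlt, Nat.cast_zero, mul_zero] at e1
    exact absurd e1 hc
  · rw [a2, Nat.cast_one, mul_one] at e1
    subst e1
    have : vec (lineAt y) = vec (lineAt y') := smul_right_injective _ hc e
    have hl := eq_of_vec r1 r2 this
    rcases lt_trichotomy y y' with h1 | h1 | h1
    · exact absurd hl (line_strict h1 hy').ne
    · exact h1
    · exact absurd hl.symm (line_strict h1 hy).ne
  · rw [b1 p2 hlt, Nat.cast_zero, mul_zero] at e2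
    exact absurd e2.symm hc'

theorem On.act {x : V14} {b : ℕ} {z : V14} (h : On x b) (hz : On z b) (k : E) {y : ℕ}
    (hy : On (z ᵥ* mE k) y) : On (x ᵥ* mE k) y := by
  obtain ⟨c, hc, rfl⟩ := h
  obtain ⟨d, hd, rfl⟩ := hz
  obtain ⟨t, ht, e⟩ := hy
  rw [Matrix.smul_vecMul] at e
  refine ⟨c * (d⁻¹ * t), mul_ne_zero hc (mul_ne_zero (inv_ne_zero hd) ht), ?_⟩
  rw [Matrix.smul_vecMul, ← smul_smul, ← smul_smul, ← e, inv_smul_smul₀ hd]

/-- The elements fixing a line. -/
def lineStab (b : ℕ) : Subgroup E where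
  carrier := {k | On (vec (lineAt b) ᵥ* mE k) b}
  one_mem' := by
    show On (vec (lineAt b) ᵥ* mE 1) b
    rw [map_one, Matrix.vecMul_one]
    exact on_self b
  mul_mem' := by
    intro k l hk hl
    show On (vec (lineAt b) ᵥ* mE (k * l)) b
    rw [map_mul, ← Matrix.vecMul_vecMul]
    exact On.act hk (on_self b) l hl
  inv_mem' := by
    intro k hk
    obtain ⟨c, hc, e⟩ := hk
    refine ⟨c⁻¹, inv_ne_zero hc, ?_⟩
    have := congrArg (· ᵥ* mE k⁻¹) e
    simp only [Matrix.vecMul_vecMul, ← map_mul, mul_inv_cancel, map_one, Matrix.vecMul_one, Matrix.smul_vecMul] at this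
    conv_rhs => rw [this, inv_smul_smul₀ hc]

/-- A subgroup fixing a line, and elements moving it to distinct lines. -/
theorem count_orbit {G G' : Subgroup E} (hle : G' ≤ G) {b : ℕ} (hfix : G' ≤ lineStab b) {n : ℕ} (ys : ℕ → ℕ)
    (hys : ∀ t < n, ys t < 3906) (hinj : ∀ t < n, ∀ s < n, ys t = ys s → t = s)
    (hreach : ∀ t < n, ∃ g ∈ G, On (vec (lineAt b) ᵥ* mE g) (ys t)) :
    n * Nat.card G' ≤ Nat.card G := by
  choose g hg hon using fun t : Fin n => hreach t t.2
  let F : Fin n × G' → G := fun q => ⟨q.2 * g q.1, mul_mem (hle q.2.2) (hg q.1)⟩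
  have hF : Function.Injective F := by
    rintro ⟨t, a⟩ ⟨s, a'⟩ e
    have e' : (a : E) * g t = a' * g s := congrArg Subtype.val e
    have m : ((a : E)⁻¹ * a') ∈ lineStab b := hfix (mul_mem (inv_mem a.2) a'.2)
    have e'' : g t = ((a : E)⁻¹ * a') * g s := by rw [mul_assoc, ← e']; group
    have h1 : On (vec (lineAt b) ᵥ* mE (g t)) (ys s) := by
      rw [e'', map_mul, ← Matrix.vecMul_vecMul]
      exact On.act m (on_self b) _ (hon s)
    obtain rfl : t = s := Fin.ext (hinj t t.2 s s.2 (On.unique (hys t t.2) (hys s s.2) (hon t) h1))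
    exact Prod.ext rfl (Subtype.ext (mul_right_cancel e'))
  have := Nat.card_le_card_of_injective F hF
  rwa [Nat.card_prod, Nat.card_eq_fintype_card, Fintype.card_fin] at this

end CfsgLib.Sporadic.CosetCert.LyIndex
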