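import Cfsg.Agent.Lib.Sporadic.LyIndex.Upper
import Cfsg.Agent.Lib.Sporadic.LyIndex.Sylow.Ord
import Cfsg.Agent.Lib.Sporadic.LyIndex.Sylow.Two
import Cfsg.Agent.Lib.Sporadic.LyIndex.Sylow.Three

/-!
# The index is exactly 8835156
-/

set_option autoImplicit false
set_option maxRecDepth 100000

namespace CfsgLib.Sporadic.CosetCert.LyIndex

open LyG2Five Cfsg.Spor

attribute [local instance] factPrimeFive

theorem map_mk_Hs :
    (Subgroup.closure ({Ly.a, Ly.b, Ly.c, Ly.d} : Set (FreeGroup Ly.Gen))).map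
        (PresentedGroup.mk (coxRelators Ly.edges ∪ {r | r ∈ Ly.extra})) = Hs := by
  rw [map_mk_abcd, Hs, gE, MonoidHom.range_comp, Subgroup.range_subtype, E, MonoidHom.map_closure, ← Set.range_comp]
  rfl

theorem card_Hs : Nat.card Hs = 5859000000 := by
  obtain ⟨e⟩ := LyG2Five.main
  rw [← map_mk_Hs, Nat.card_congr e.toEquiv, Cfsg.Agent.S1059.result (ZMod.card 5)]
  norm_num

theorem card_LyP : Nat.card LyP = Hs.index * 5859000000 := by
  rw [← Hs.index_mul_card, card_Hs]

theorem index_eq : Hs.index = 8835156 := by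
  obtain ⟨hle, hne⟩ := index_le
  have hd : Nat.card rho.range ∣ Hs.index * 5859000000 := card_LyP ▸ Subgroup.card_range_dvd rho
  have h : 11 * 37 * 67 * 256 * 2187 ∣ Hs.index * 5859000000 :=
    Nat.Coprime.mul_dvd_of_dvd_of_dvd (by norm_num)
      (Nat.Coprime.mul_dvd_of_dvd_of_dvd (by norm_num)
        (Nat.Coprime.mul_dvd_of_dvd_of_dvd (by norm_num)
          (Nat.Coprime.mul_dvd_of_dvd_of_dvd (by norm_num) (Ord.dvd11.trans hd) (Ord.dvd37.trans hd))
          (Ord.dvd67.trans hd))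
        (Two.dvd.trans hd))
      (Three.dvd.trans hd)
  rw [show 11 * 37 * 67 * 256 * 2187 = 1728 * 8835156 by norm_num,
    show Hs.index * 5859000000 = 1728 * (Hs.index * 3390625) by ring] at h
  have h2 := Nat.Coprime.dvd_of_dvd_mul_right (by norm_num) (Nat.dvd_of_mul_dvd_mul_left (by norm_num) h)
  exact le_antisymm hle (Nat.le_of_dvd (Nat.pos_of_ne_zero hne) h2)

end CfsgLib.Sporadic.CosetCert.LyIndex
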