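import Cfsg.Agent.Lib.Sporadic.LyIndex.Checks.Chunks0
import Cfsg.Agent.Lib.Sporadic.LyIndex.Checks.Chunks1
import Cfsg.Agent.Lib.Sporadic.LyIndex.Checks.Chunks2
import Cfsg.Agent.Lib.Sporadic.LyIndex.Checks.Chunks3
import Cfsg.Agent.Lib.Sporadic.LyIndex.Checks.Chunks4
import Cfsg.Agent.Lib.Sporadic.LyIndex.Checks.Chunks5
import Cfsg.Agent.Lib.Sporadic.LyIndex.Checks.Chunks6
import Cfsg.Agent.Lib.Sporadic.LyIndex.Checks.Chunks7

/-!
# Every statement of the derivation holds
-/

set_option autoImplicit false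
set_option maxRecDepth 100000

namespace CfsgLib.Sporadic.CosetCert.LyIndex

theorem okChunk_all : ∀ k < 52, okChunk k = true := fun k hk =>
  match k, hk with
  | 0, _ => okChunk0
  | 1, _ => okChunk1
  | 2, _ => okChunk2
  | 3, _ => okChunk3
  | 4, _ => okChunk4
  | 5, _ => okChunk5
  | 6, _ => okChunk6
  | 7, _ => okChunk7
  | 8, _ => okChunk8
  | 9, _ => okChunk9
  | 10, _ => okChunk10
  | 11, _ => okChunk11
  | 12, _ => okChunk12
  | 13, _ => okChunk13
  | 14, _ => okChunk14
  | 15, _ => okChunk15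
  | 16, _ => okChunk16
  | 17, _ => okChunk17
  | 18, _ => okChunk18
  | 19, _ => okChunk19
  | 20, _ => okChunk20
  | 21, _ => okChunk21
  | 22, _ => okChunk22
  | 23, _ => okChunk23
  | 24, _ => okChunk24
  | 25, _ => okChunk25
  | 26, _ => okChunk26
  | 27, _ => okChunk27
  | 28, _ => okChunk28
  | 29, _ => okChunk29
  | 30, _ => okChunk30
  | 31, _ => okChunk31
  | 32, _ => okChunk32
  | 33, _ => okChunk33
  | 34, _ => okChunk34
  | 35, _ => okChunk35
  | 36, _ => okChunk36
  | 37, _ => okChunk37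
  | 38, _ => okChunk38
  | 39, _ => okChunk39
  | 40, _ => okChunk40
  | 41, _ => okChunk41
  | 42, _ => okChunk42
  | 43, _ => okChunk43
  | 44, _ => okChunk44
  | 45, _ => okChunk45
  | 46, _ => okChunk46
  | 47, _ => okChunk47
  | 48, _ => okChunk48
  | 49, _ => okChunk49
  | 50, _ => okChunk50
  | 51, _ => okChunk51
  | _ + 52, h => absurd h (by omega)

theorem sem_all : ∀ n < numNd, Sem (getN n) := by
  intro n
  induction n using Nat.strong_induction_on with
  | _ n ih =>
    intro hn
    exact check_sound getN n (fun m hm => ih m hm (hm.trans hn)) _ (opN n)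
      (okChunk_spec (okChunk_all (n / 64) (by have : numNd = 3269 := rfl; omega)) hn rfl)

end CfsgLib.Sporadic.CosetCert.LyIndex
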