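import Cfsg.Agent.Lib.Sporadic.LyG2Five.Main

/-!
# The presented Lyons group with a, b, c, d read as matrices of degree 14

The subgroup generated by the five letters is taken inside the product with the matrices, where the
projection to the matrices is injective.
-/

set_option autoImplicit false
set_option maxRecDepth 100000

namespace CfsgLib.Sporadic.CosetCert.LyIndex

open LyG2Five Cfsg.Spor PackedMatrix
open scoped MatrixGroups

attribute [local instance] factPrimeFive

/-- The letters in both groups. -/
noncomputable def fE : G5 → LyP × M14ˣ := fun k => (fLy k, u14 k)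

theorem rels_fE : Rels fE := by
  intro r hr
  refine Prod.ext ?_ ?_
  · exact (lift_comp (MonoidHom.fst _ _) fE _).trans (rels_fLy r hr)
  · exact (lift_comp (MonoidHom.snd _ _) fE _).trans (rels_u14 r hr)

/-- The subgroup of pairs. -/
noncomputable abbrev E : Subgroup (LyP × M14ˣ) := Subgroup.closure (Set.range fE)

theorem card_E_le : Nat.card E ≤ 5859000000 ∧ Nat.card E ≠ 0 := card_range rels_fE

/-- The element of the presented group. -/
noncomputable def gE : E →* LyP := (MonoidHom.fst _ _).comp E.subtype

/-- The matrix. -/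
noncomputable def mE : E →* M14 := (Units.coeHom M14).comp ((MonoidHom.snd _ _).comp E.subtype)

instance finite_E : Finite E := Nat.finite_of_card_ne_zero card_E_le.2

theorem range_snd : E.map (MonoidHom.snd LyP M14ˣ) = Subgroup.closure (Set.range u14) := by
  rw [MonoidHom.map_closure, ← Set.range_comp]; rfl

theorem card_u14 : Nat.card (Subgroup.closure (Set.range u14)) = 5859000000 := by
  have h : Nat.card (Cfsg.Lie.chevG2.group (ZMod 5)) = 5859000000 := by
    rw [Cfsg.Agent.S1059.result (ZMod.card 5)]
    norm_num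
  rw [← h, ← closure_u14]
  refine Nat.card_congr ((Subgroup.equivMapOfInjective _ reidx.symm.toMonoidHom reidx.symm.injective).trans
    (MulEquiv.subgroupCongr ?_)).toEquiv
  rw [MonoidHom.map_closure, ← Set.range_comp]; rfl

theorem card_E : Nat.card E = 5859000000 := by
  refine le_antisymm card_E_le.1 ?_
  have h := Subgroup.card_map_of_injective (K := E) (f := MonoidHom.id (LyP × M14ˣ)) Function.injective_id
  rw [← card_u14, ← range_snd]
  exact Nat.le_of_dvd (Nat.pos_of_ne_zero card_E_le.2) (Subgroup.card_map_dvd _ _)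

theorem mE_injective : Function.Injective mE := by
  intro x y h
  let π : E →* Subgroup.closure (Set.range u14) :=
    ((MonoidHom.snd _ _).comp E.subtype).codRestrict _ fun e => range_snd ▸ Subgroup.mem_map_of_mem _ e.2
  have hs : Function.Surjective π := by
    rintro ⟨y, hy⟩
    rw [← range_snd] at hy
    obtain ⟨e, he, rfl⟩ := hy
    exact ⟨⟨e, he⟩, rfl⟩
  have hb : Function.Bijective π := hs.bijective_of_nat_card_le (by rw [card_u14, card_E])
  exact hb.1 (Subtype.ext (Units.ext h))

/-- A letter. -/
noncomputable def el (x : ℕ) : E := ⟨g9 fE x, g9_mem fE x⟩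

theorem mE_el (x : ℕ) : mE (el x) = md14 (lett14 x) := by
  rw [← g9_val]
  show ((g9 fE x).2).val = _
  match x with
  | 0 => rfl
  | 1 => rfl
  | 2 => rfl
  | 3 => rfl
  | 4 => rfl
  | 5 => rfl
  | 6 => rfl
  | 7 => rfl
  | 8 => rfl
  | k + 9 => rfl

/-- A word, in standard order. -/
noncomputable def wordE (L : List ℕ) : E := (L.map el).prod

/-- The matrix of a word, packed. -/
noncomputable def wordM (L : List ℕ) : List ℕ :=
  L.foldl (fun acc x => PackedMatrix.mul 5 14 acc (lett14 x)) (PackedMatrix.one 14)

theorem foldl_word : ∀ (L : List ℕ) (acc : List ℕ), ok 5 14 acc = true →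
    ok 5 14 (L.foldl (fun acc x => PackedMatrix.mul 5 14 acc (lett14 x)) acc) = true ∧
      md14 (L.foldl (fun acc x => PackedMatrix.mul 5 14 acc (lett14 x)) acc) = md14 acc * mE (wordE L) := by
  intro L
  induction L with
  | nil => intro acc h; exact ⟨h, by simp [wordE]⟩
  | cons x t ih =>
    intro acc h
    obtain ⟨h1, h2⟩ := ih _ (ok_mul (by norm_num) (by norm_num) h (lett14 x))
    refine ⟨h1, h2.trans ?_⟩
    rw [show wordE (x :: t) = el x * wordE t from rfl, map_mul, mE_el, ← mul_assoc]
    exact congrArg (· * _) (dec_mul (by norm_num) (by norm_num) h (ok_lett14 x))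

theorem wordM_spec (L : List ℕ) : ok 5 14 (wordM L) = true ∧ md14 (wordM L) = mE (wordE L) := by
  obtain ⟨h1, h2⟩ := foldl_word L _ ok14.2.2
  exact ⟨h1, h2.trans (by rw [md14_one, one_mul])⟩

/-- The seven letters in the presented group. -/
def fG : G7 → LyP
  | .a => PresentedGroup.of .a
  | .b => PresentedGroup.of .b
  | .c => PresentedGroup.of .c
  | .d => PresentedGroup.of .d
  | .e => PresentedGroup.of .e
  | .z => PresentedGroup.of .z
  | .c5 => PresentedGroup.of .c5

/-- The seven letters as generators. -/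
def back : G7 → Ly.Gen
  | .a => .a | .b => .b | .c => .c | .d => .d | .e => .e | .z => .z | .c5 => .c5

/-- The generators with the numbers of their defining relations. -/
def defRels : List (Ly.Gen × ℕ) :=
  [(.c1, 5), (.c2, 6), (.c3, 7), (.c4, 8), (.a1, 44), (.a2, 45), (.a3, 46), (.a4, 47), (.u, 48), (.x23, 49),
    (.x24, 50), (.x25, 51), (.x29, 52), (.x47, 53), (.x96, 54), (.x129, 55), (.x162, 56), (.x163, 57),
    (.x164, 58), (.x165, 59), (.x166, 60), (.x167, 61), (.x168, 62), (.x169, 63), (.x364, 64), (.x365, 65),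
    (.x366, 66), (.x367, 67), (.x368, 68), (.x369, 69), (.x370, 70), (.x371, 71)]

theorem defRels_ok : ∀ p ∈ defRels, p.2 < 86 ∧ Ly.extra.getD p.2 1 =
    FreeGroup.of p.1 * (FreeGroup.lift (fun y => FreeGroup.of (back y)) (sub7 p.1))⁻¹ := by
  decide +kernel

theorem of_eq (x : Ly.Gen) : FreeGroup.lift fG (sub7 x) = (PresentedGroup.of x : LyP) := by
  have key : ∀ p ∈ defRels, FreeGroup.lift fG (sub7 p.1) = (PresentedGroup.of p.1 : LyP) := by
    intro p hp
    obtain ⟨hi, e⟩ := defRels_ok p hp
    have h := lyRel hi e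
    rw [map_mul, map_inv, mul_inv_eq_one, FreeGroup.lift_apply_of, lift_lift] at h
    rw [h]
    refine congrArg (fun f => FreeGroup.lift f (sub7 p.1)) (funext fun y => ?_)
    rw [FreeGroup.lift_apply_of]
    cases y <;> rfl
  have hc : ∀ y, x = y → (∃ i, (y, i) ∈ defRels) → FreeGroup.lift fG (sub7 x) = (PresentedGroup.of x : LyP) := by
    rintro y rfl ⟨i, hi⟩
    exact key _ hi
  by_cases h : x ∈ defRels.map Prod.fst
  · obtain ⟨p, hp, rfl⟩ := List.mem_map.1 h
    exact key p hp
  · cases x <;> first | exact FreeGroup.lift_apply_of | exact absurd (by decide) h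

/-- Thirteen letters in the presented group. -/
def gL : ℕ → LyP := fun x =>
  [fG .a, (fG .a)⁻¹, fG .b, (fG .b)⁻¹, fG .c, (fG .c)⁻¹, fG .d, (fG .d)⁻¹, fG .e,
    fG .z, (fG .z)⁻¹, fG .c5, (fG .c5)⁻¹].getD x 1

theorem e_inv_Ly : (fG .e)⁻¹ = fG .e := by
  have h := lyRel (i := 29) (r := Ly.e ^ 2) (by norm_num) rfl
  simp only [map_pow, FreeGroup.lift_apply_of] at h
  exact inv_eq_of_mul_eq_one_right (by rw [← pow_two]; exact h)

theorem appProd_reverse {G : Type*} [Group G] (g : ℕ → G) (L : List ℕ) :
    appProd g L = (L.reverse.map g).prod := by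
  induction L with
  | nil => rfl
  | cons x t ih => simp [appProd, ih]

/-- The standard word of a commutator. -/
def c5word : List ℕ := [5, 1, 5, 0, 4, 1, 4, 0]

/-- The standard word of the inverse commutator. -/
def c5iword : List ℕ := [1, 5, 0, 5, 1, 4, 0, 4]

/-- Seven letters rewritten. -/
def flat : ℕ → List ℕ
  | 11 => c5word
  | 12 => c5iword
  | x => [x]

/-- The standard word of a relation. -/
def relWord (i : ℕ) : List ℕ := (word7 (Ly.extra.getD i 1)).reverse.flatMap flat

theorem c5_eq : (c5word.map gL).prod = fG .c5 ∧ (c5iword.map gL).prod = (fG .c5)⁻¹ := by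
  have h9 := lyRel (i := 9) (r := Ly.c5 * ((Ly.c1⁻¹ * Ly.c2⁻¹ * Ly.c1 * Ly.c2)⁻¹)) (by norm_num) rfl
  simp only [map_mul, map_inv, FreeGroup.lift_apply_of] at h9
  rw [mul_inv_eq_one, ← of_eq .c1, ← of_eq .c2] at h9
  simp only [sub7, map_mul, map_inv, FreeGroup.lift_apply_of] at h9
  have e : fG .c5 = (fG .c)⁻¹ * ((fG .a)⁻¹ * (fG .c)⁻¹ * fG .a) * fG .c * ((fG .a)⁻¹ * fG .c * fG .a) := by
    show (PresentedGroup.of Ly.Gen.c5 : LyP) = _
    rw [h9]
    group
  rw [e]
  constructor <;> simp [c5word, c5iword, gL] <;> group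

theorem relWord_eq {i : ℕ} (hi : i < 86) : ((relWord i).map gL).prod = 1 := by
  have h := lyRel hi rfl
  rw [show FreeGroup.lift (PresentedGroup.of : Ly.Gen → LyP) = FreeGroup.lift (fun x => FreeGroup.lift fG (sub7 x))
      from congrArg _ (funext fun x => (of_eq x).symm), ← lift_lift,
    lift_eq_appProd fG gL code7 cinv7 (fun x => by cases x <;> rfl)
      (fun x => by cases x <;> first | rfl | exact e_inv_Ly.symm)] at h
  change appProd gL (word7 (Ly.extra.getD i 1)) = 1 at h
  rw [appProd_reverse] at h
  rw [relWord]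
  generalize (word7 (Ly.extra.getD i 1)).reverse = L at h
  rw [← h]
  clear h
  induction L with
  | nil => rfl
  | cons x t ih =>
    rw [List.flatMap_cons, List.map_append, List.prod_append, ih, List.map_cons, List.prod_cons]
    congr 1
    unfold flat
    split
    · exact c5_eq.1
    · exact c5_eq.2
    · simp

theorem gE_el {x : ℕ} (hx : x < 8) : gE (el x) = gL x := by
  interval_cases x <;> rfl

theorem gE_wordE {L : List ℕ} (h : ∀ x ∈ L, x < 8) : gE (wordE L) = (L.map gL).prod := by
  rw [wordE, map_list_prod, List.map_map]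
  exact congrArg List.prod (List.map_congr_left fun x hx => gE_el (h x hx))

/-- Split at the letter of z. -/
def split9 : List ℕ → List ℕ × List (List ℕ)
  | [] => ([], [])
  | x :: t => if x = 9 then ([], (split9 t).1 :: (split9 t).2) else (x :: (split9 t).1, (split9 t).2)

theorem split9_prod : ∀ L : List ℕ, (L.map gL).prod = ((split9 L).1.map gL).prod *
    ((split9 L).2.map fun s => fG .z * (s.map gL).prod).prod := by
  intro L
  induction L with
  | nil => simp [split9]
  | cons x t ih =>
    rw [List.map_cons, List.prod_cons, ih, split9]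
    split_ifs with hx
    · subst hx
      simp [gL, mul_assoc]
    · simp [mul_assoc]

end CfsgLib.Sporadic.CosetCert.LyIndex
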