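import Cfsg.Agent.Lib.Sporadic.LyIndex.Engine
import Cfsg.Agent.Lib.Sporadic.LyIndex.Data.NodeTab

/-!
# The test of the derivation
-/

set_option autoImplicit false
set_option maxRecDepth 100000

namespace CfsgLib.Sporadic.CosetCert.LyIndex

/-- An entry of a table in chunks of 64. -/
def get2 {α : Type} (d : α) (T : List (List α)) (n : ℕ) : α :=
  (T.getD (Nat.div n 64) []).getD (Nat.mod n 64) d

/-- A statement of the derivation. -/
def getN (n : ℕ) : Nd := get2 (.f [] []) ndTab n

/-- A justification. -/
def opN (n : ℕ) : Op := get2 .one opTab n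

/-- The test of the chunk `k`. -/
noncomputable def okChunk (k : ℕ) : Bool :=
  (List.range 64).all fun t =>
    Nat.ble numNd (Nat.add (Nat.mul 64 k) t) ||
      check getN (Nat.add (Nat.mul 64 k) t) (getN (Nat.add (Nat.mul 64 k) t)) (opN (Nat.add (Nat.mul 64 k) t))

theorem okChunk_spec {k : ℕ} (h : okChunk k = true) {n : ℕ} (hn : n < numNd) (hk : n / 64 = k) :
    check getN n (getN n) (opN n) = true := by
  have h' := List.all_eq_true.1 h (n % 64) (List.mem_range.2 (Nat.mod_lt _ (by norm_num)))
  have e : Nat.add (Nat.mul 64 k) (n % 64) = n := by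
    show 64 * k + n % 64 = n
    omega
  rw [e] at h'
  rcases Bool.or_eq_true _ _ ▸ h' with h1 | h1
  · exact absurd (Nat.le_of_ble_eq_true h1) (by omega)
  · exact h1

end CfsgLib.Sporadic.CosetCert.LyIndex
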