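import Cfsg.Agent.Lib.Sporadic.LyIndex.Cover

/-!
# The subgroup of the five letters has index at most 8835156
-/

set_option autoImplicit false
set_option maxRecDepth 100000

namespace CfsgLib.Sporadic.CosetCert.LyIndex

open LyG2Five Cfsg.Spor PackedMatrix
open scoped Matrix

attribute [local instance] factPrimeFive

attribute [local irreducible] PackedMatrix.mul PackedMatrix.ok vimg scaleIs getN wordM covAt lineAt mulIs

/-- The generated subgroup of a list of statements. -/
noncomputable def genStab (i : ℕ) (gs : List ℕ) : Subgroup E :=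
  Subgroup.closure {k | ∃ g ∈ gs, ∃ K, getN g = .s i K ∧ Stands K k}

theorem hasNum_spec {g : ℕ} {L : List ℕ} (h : hasNum g L = true) : g ∈ L := by
  obtain ⟨x, hx, e⟩ := List.any_eq_true.1 h
  exact Nat.eq_of_beq_eq_true e ▸ hx

theorem genStab_le {i : ℕ} {gs : List ℕ} (h : gs.all (isStab i) = true) : genStab i gs ≤ stab i := by
  rw [genStab, Subgroup.closure_le]
  rintro k ⟨g, hg, K, e, hK⟩
  have h' := List.all_eq_true.1 h g hg
  simp only [isStab, Bool.and_eq_true] at h'
  obtain ⟨k', hk', hK'⟩ := stab_mem (Nat.le_of_ble_eq_true h'.1) e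
  exact stands_eq hK hK' ▸ hk'

theorem genStab_mono {i : ℕ} {gs gs' : List ℕ} (h : ∀ g ∈ gs', g ∈ gs) : genStab i gs' ≤ genStab i gs :=
  Subgroup.closure_mono fun _ ⟨g, hg, r⟩ => ⟨g, h g hg, r⟩

theorem level_reach {i b n : ℕ} {gs : List ℕ} {yT cT : List (List ℕ)} (h : levelOK i (b, gs, n, yT, cT) = true) :
    b < 3906 ∧ gs.all (isStab i) = true ∧ (∀ t < n, get2 0 yT t < 3906) ∧
      (∀ t < n, ∀ s < n, get2 0 yT t = get2 0 yT s → t = s) ∧
      ∀ t < n, ∃ g ∈ genStab i gs, On (vec (lineAt b) ᵥ* mE g) (get2 0 yT t) := by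
  simp only [levelOK, Bool.and_eq_true, List.all_eq_true, List.mem_range] at h
  obtain ⟨⟨hb, hgs⟩, h⟩ := h
  have hy : ∀ t < n, get2 0 yT t < 3906 := fun t ht => Nat.le_of_ble_eq_true (h t ht).1.1
  have hinc : ∀ t s, t < s → s < n → get2 0 yT t < get2 0 yT s := by
    intro t s
    induction s with
    | zero => omega
    | succ s ih =>
      intro hts hs
      have hstep : get2 0 yT s < get2 0 yT (s + 1) := by
        rcases Bool.or_eq_true _ _ ▸ (h s (by omega)).1.2 with h1 | h1
        · exact absurd (Nat.le_of_ble_eq_true h1) (by omega)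
        · exact Nat.le_of_ble_eq_true h1
      rcases Nat.lt_succ_iff_lt_or_eq.1 hts with h' | rfl
      · exact (ih h' (by omega)).trans hstep
      · exact hstep
  refine ⟨Nat.le_of_ble_eq_true hb, List.all_eq_true.2 hgs, hy, fun t ht s hs e => ?_, ?_⟩
  · rcases lt_trichotomy t s with h' | h' | h'
    · exact absurd e (hinc t s h' hs).ne
    · exact h'
    · exact absurd e.symm (hinc s t h' ht).ne
  intro t
  induction hd : codeD (get2 0 cT t) using Nat.strong_induction_on generalizing t with
  | _ d ih =>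
    intro ht
    have ht' := (h t ht).2
    simp only [forced_eq, Bool.or_eq_true, Bool.and_eq_true] at ht'
    rcases ht' with ⟨-, he⟩ | ⟨⟨⟨hp, hdp⟩, hg⟩, hs⟩
    · refine ⟨1, one_mem _, ?_⟩
      rw [map_one, Matrix.vecMul_one, Nat.eq_of_beq_eq_true he]
      exact on_self b
    · obtain ⟨-, k, -, ⟨K, hK, hKs⟩, hstep⟩ := stepOK_spec hs (hy t ht)
      obtain ⟨g, hgm, hon⟩ := ih _ (hd ▸ Nat.le_of_ble_eq_true hdp) _ rfl (Nat.le_of_ble_eq_true hp)
      refine ⟨g * k, mul_mem hgm (Subgroup.subset_closure ⟨_, hasNum_spec hg, K, hK, hKs⟩), ?_⟩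
      rw [map_mul, ← Matrix.vecMul_vecMul]
      exact hstep _ hon

theorem chain_card {i : ℕ} : ∀ L : List Level, chainOK i L = true →
    ∀ l rest, L = l :: rest → chainProd L ≤ Nat.card (genStab i l.2.1) ∧ genStab i l.2.1 ≤ stab i := by
  intro L
  induction L with
  | nil => intro _ l rest e; exact absurd e (List.cons_ne_nil l rest).symm
  | cons l0 L ih =>
    intro h l rest e
    obtain ⟨rfl, rfl⟩ := List.cons.inj e
    obtain ⟨b, gs, n, yT, cT⟩ := l0
    cases L with
    | nil =>
      obtain ⟨hb, hgs, hy, hinj, hreach⟩ := level_reach h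
      refine ⟨?_, genStab_le hgs⟩
      have := count_orbit (G := genStab i gs) (G' := ⊥) bot_le bot_le _ hy hinj hreach
      rwa [Subgroup.card_bot] at this
    | cons l1 L =>
      simp only [chainOK, Bool.and_eq_true] at h
      obtain ⟨⟨h0, hlink⟩, hrest⟩ := h
      obtain ⟨hb, hgs, hy, hinj, hreach⟩ := level_reach h0
      refine ⟨?_, genStab_le hgs⟩
      obtain ⟨h1, -⟩ := ih hrest l1 L rfl
      have hl := List.all_eq_true.1 hlink
      have hle : genStab i l1.2.1 ≤ genStab i gs := genStab_mono fun g hg => by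
        have := hl g hg
        simp only [Bool.and_eq_true] at this
        exact hasNum_spec this.1
      have hfix : genStab i l1.2.1 ≤ lineStab b := by
        rw [genStab, Subgroup.closure_le]
        rintro k ⟨g, hg, K, hK, hKs⟩
        have := hl g hg
        simp only [Bool.and_eq_true, List.any_eq_true] at this
        obtain ⟨-, c, -, hc⟩ := this
        obtain ⟨-, k', -, ⟨K', hK', hKs'⟩, hstep⟩ := stepOK_spec hc hb
        obtain ⟨-, rfl⟩ := Nd.s.inj (hK.symm.trans hK')
        exact stands_eq hKs hKs' ▸ hstep _ (on_self b)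
      calc chainProd ((b, gs, n, yT, cT) :: l1 :: L) = n * chainProd (l1 :: L) := rfl
        _ ≤ n * Nat.card (genStab i l1.2.1) := Nat.mul_le_mul_left _ h1
        _ ≤ Nat.card (genStab i gs) := count_orbit hle hfix _ hy hinj hreach

/-- The lengths of the classes. -/
def classLen : List ℕ := [1, 19530, 5812500, 2034375, 968750]

theorem stab_index {i : ℕ} (hi : i < 5) : (stab i).index ≤ classLen.getD i 0 := by
  match i, hi with
  | 0, _ =>
    have : stab 0 = ⊤ := Subgroup.ext fun k => iff_of_true (rs_zero k) trivial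
    rw [this, Subgroup.index_top]
    rfl
  | j + 1, hj =>
    have key : chainProd (chains.getD (j + 1) []) ≤ Nat.card (stab (j + 1)) := by
      have h := chainChk (j + 1) hj
      generalize chains.getD (j + 1) [] = L at h ⊢
      cases L with
      | nil => exact Nat.one_le_iff_ne_zero.2 Nat.card_pos.ne'
      | cons l rest =>
        obtain ⟨h1, h2⟩ := chain_card _ h l rest rfl
        exact h1.trans (Nat.card_le_card_of_injective _ (Subgroup.inclusion_injective h2))
    have hv : chainProd (chains.getD (j + 1) []) = [1, 300000, 1008, 2880, 6048].getD (j + 1) 0 := by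
      rw [← chainProds, List.getD_eq_getElem?_getD, List.getD_eq_getElem?_getD, List.getElem?_map]
      have : j + 1 < chains.length := hj
      rw [List.getElem?_eq_getElem this]
      rfl
    rw [hv] at key
    have hm : [1, 300000, 1008, 2880, 6048].getD (j + 1) 0 * classLen.getD (j + 1) 0 = 5859000000 := by
      have : j < 4 := by omega
      interval_cases j <;> rfl
    have h2 := (stab (j + 1)).index_mul_card
    rw [card_E, ← hm] at h2
    have hpos : 0 < [1, 300000, 1008, 2880, 6048].getD (j + 1) 0 := by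
      have : j < 4 := by omega
      interval_cases j <;> norm_num
    refine Nat.le_of_mul_le_mul_left ?_ hpos
    calc _ ≤ Nat.card (stab (j + 1)) * (stab (j + 1)).index := Nat.mul_le_mul_right _ key
      _ = _ := by rw [mul_comm]; exact h2

theorem wG_class (j : ℕ) : ∃ i < 5, wG j = wG i := by
  by_cases h : j < 5
  · exact ⟨j, h, rfl⟩
  · refine ⟨0, by norm_num, ?_⟩
    match j, h with
    | k + 5, _ => rfl
    | 0, h | 1, h | 2, h | 3, h | 4, h => exact absurd (by norm_num) h

/-- A coset is in one of the classes. -/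
def InS (x : LyP) : Prop := ∃ i < 5, ∃ h, RS x (wG i * gE h)

theorem InS.mul_E {x : LyP} (hx : InS x) (k : E) : InS (x * gE k) := by
  obtain ⟨i, hi, h, hr⟩ := hx
  exact ⟨i, hi, h * k, by rw [map_mul, ← mul_assoc]; exact hr.mul _⟩

theorem InS.mul_z {x : LyP} (hx : InS x) : InS (x * fG .z) := by
  obtain ⟨i, hi, h, hr⟩ := hx
  obtain ⟨k, hk, o, ho, m, hm, d, ⟨p, hp⟩, rfl⟩ := decompose hi h
  obtain ⟨j, t, hjt⟩ := edge_sound hi ho hm
  obtain ⟨i', hi', e⟩ := wG_class j
  refine ⟨i', hi', t * p, (hr.mul _).trans ?_⟩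
  rw [← e, map_mul, map_mul, map_mul]
  have h1 := (show RS (wG i * gE k) (wG i) from hk).mul
    (gE (wordE (fibWord m) * wordE (orbAt i o).1)⁻¹ * (fG .z * gE p))
  have h2 := hjt.mul (gE p)
  simp only [mul_assoc] at h1 h2 ⊢
  rw [hp]
  exact h1.trans h2

theorem gen_mem : ∀ x : Ly.Gen, (PresentedGroup.of x : LyP) ∈
    Subgroup.closure (Set.insert (fG .z) (gE.range : Set LyP)) := by
  intro x
  rw [← of_eq x]
  set S := Subgroup.closure (Set.insert (fG .z) (gE.range : Set LyP))
  have hE : ∀ k, gE k ∈ S := fun k => Subgroup.subset_closure (Or.inr ⟨k, rfl⟩)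
  have h : ∀ y, fG y ∈ S := by
    intro y
    cases y
    · exact hE (el 0)
    · exact hE (el 2)
    · exact hE (el 4)
    · exact hE (el 6)
    · exact hE (el 8)
    · exact Subgroup.subset_closure (Or.inl rfl)
    · rw [← c5_eq.1, ← gE_wordE (by decide)]; exact hE _
  have : ∀ w : FreeGroup G7, FreeGroup.lift fG w ∈ S := fun w => by
    have hr : (FreeGroup.lift fG).range ≤ S := by
      rw [FreeGroup.range_lift_eq_closure, Subgroup.closure_le]
      rintro _ ⟨y, rfl⟩
      exact h y
    exact hr ⟨w, rfl⟩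
  exact this _

theorem inS_all (x : LyP) : InS x := by
  have hx : x ∈ Subgroup.closure (Set.insert (fG .z) (gE.range : Set LyP)) := by
    have : (⊤ : Subgroup LyP) ≤ Subgroup.closure (Set.insert (fG .z) (gE.range : Set LyP)) := by
      rw [← PresentedGroup.closure_range_of, Subgroup.closure_le]
      rintro _ ⟨y, rfl⟩
      exact gen_mem y
    exact this trivial
  have step : ∀ s ∈ Set.insert (fG .z) (gE.range : Set LyP), ∀ u, InS u → InS (u * s) ∧ InS (u * s⁻¹) := by
    rintro s (rfl | ⟨k, rfl⟩) u hu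
    · refine ⟨hu.mul_z, ?_⟩
      rw [zi_eq, ← mul_assoc, ← mul_assoc, ← gE_el (by norm_num)]
      exact (hu.mul_z.mul_E _).mul_E _
    · exact ⟨hu.mul_E k, by rw [← map_inv]; exact hu.mul_E _⟩
  suffices H : ∀ u, (InS u → InS (u * x)) ∧ (InS u → InS (u * x⁻¹)) by
    simpa using (H 1).1 ⟨0, by norm_num, 1, by rw [map_one, mul_one]; exact RS.refl 1⟩
  induction hx using Subgroup.closure_induction with
  | mem s hs => exact fun u => ⟨fun hu => (step s hs u hu).1, fun hu => (step s hs u hu).2⟩
  | one => intro u; simp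
  | mul a b _ _ iha ihb =>
    intro u
    refine ⟨fun hu => ?_, fun hu => ?_⟩
    · rw [← mul_assoc]; exact (ihb _).1 ((iha u).1 hu)
    · rw [mul_inv_rev, ← mul_assoc]; exact (iha _).2 ((ihb u).2 hu)
  | inv a _ iha =>
    intro u
    rw [inv_inv]
    exact ⟨(iha u).2, (iha u).1⟩

/-- The map from the classes onto the cosets. -/
noncomputable def classMap : (Σ i : Fin 5, E ⧸ stab i) → LyP ⧸ Hs := fun q =>
  Quotient.liftOn' q.2 (fun k => (QuotientGroup.mk (gE k * (wG q.1)⁻¹) : LyP ⧸ Hs)) fun a b hab => by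
    rw [QuotientGroup.leftRel_apply] at hab
    refine QuotientGroup.eq.2 ?_
    have h := (show RS (wG q.1 * gE (a⁻¹ * b)) (wG q.1) from hab)
    rw [RS, map_mul, map_inv] at h
    rw [mul_inv_rev, inv_inv]
    simpa only [mul_assoc] using h

theorem classMap_surj : Function.Surjective classMap := by
  intro c
  obtain ⟨x, rfl⟩ := QuotientGroup.mk_surjective c
  obtain ⟨i, hi, h, hr⟩ := inS_all x⁻¹
  refine ⟨⟨⟨i, hi⟩, QuotientGroup.mk h⁻¹⟩, ?_⟩
  refine QuotientGroup.eq.2 ?_
  have := inv_mem (s := Hs) hr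
  rw [mul_inv_rev, inv_inv] at this
  rw [map_inv, mul_inv_rev, inv_inv, inv_inv]
  simpa only [mul_inv_rev, inv_inv, mul_assoc] using this

theorem index_le : Hs.index ≤ 8835156 ∧ Hs.index ≠ 0 := by
  have : Finite (LyP ⧸ Hs) := Finite.of_surjective _ classMap_surj
  refine ⟨?_, (Nat.card_pos (α := LyP ⧸ Hs)).ne'⟩
  refine (Nat.card_le_card_of_surjective _ classMap_surj).trans ?_
  rw [Nat.card_sigma]
  refine (Finset.sum_le_sum fun (i : Fin 5) _ => stab_index i.2).trans ?_
  decide

end CfsgLib.Sporadic.CosetCert.LyIndex
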